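import Cfsg.Agent.M12Cent14.Model

/-!
# Groups with an involution centralizer given by the table
-/

set_option autoImplicit false

namespace Cfsg.Agent.M12Cent14

variable {G : Type*} [Group G]

/-- `φ` enumerates the centralizer of `t` according to the table. -/
structure CentModel (t : G) (φ : ℕ → G) : Prop where
  comm : ∀ a < 192, φ a * t = t * φ a
  inj : ∀ a < 192, ∀ b < 192, φ a = φ b → a = b
  surj : ∀ g : G, g * t = t * g → ∃ a < 192, φ a = g
  map_mul : ∀ a < 192, ∀ b < 192, φ (mu a b) = φ a * φ b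
  map_z : φ zI = t

theorem pw_lt {a : ℕ} (ha : a < 192) : ∀ m, pw a m < 192
  | 0 => by norm_num [pw]
  | m + 1 => table_lt _ (pw_lt ha m) _ ha

namespace CentModel

variable {t : G} {φ : ℕ → G}

theorem map_zero (h : CentModel t φ) : φ 0 = 1 := by
  have := h.map_mul 0 (by norm_num) 0 (by norm_num)
  rw [table_one.1] at this
  exact left_eq_mul.mp this

theorem map_eq_one (h : CentModel t φ) {a : ℕ} (ha : a < 192) : φ a = 1 ↔ a = 0 :=
  ⟨fun e => h.inj a ha 0 (by norm_num) (e.trans h.map_zero.symm), fun e => e ▸ h.map_zero⟩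

theorem map_pw (h : CentModel t φ) {a : ℕ} (ha : a < 192) : ∀ m, φ (pw a m) = φ a ^ m
  | 0 => by rw [pw, h.map_zero, pow_zero]
  | m + 1 => by rw [pw, h.map_mul _ (pw_lt ha m) _ ha, h.map_pw ha m, pow_succ]

theorem com_iff (h : CentModel t φ) {a b : ℕ} (ha : a < 192) (hb : b < 192) :
    φ a * φ b = φ b * φ a ↔ com a b = true := by
  rw [← h.map_mul a ha b hb, ← h.map_mul b hb a ha, com, beq_iff_eq]
  exact ⟨h.inj _ (table_lt a ha b hb) _ (table_lt b hb a ha), fun e => by rw [e]⟩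

theorem orderOf_eq_two_iff (h : CentModel t φ) {a : ℕ} (ha : a < 192) :
    orderOf (φ a) = 2 ↔ lab a ≠ 0 := by
  rw [orderOf_eq_prime_iff, pow_two, ← h.map_mul a ha a ha, h.map_eq_one (table_lt a ha a ha),
    Ne, h.map_eq_one ha, (lab_spec a ha).1, and_comm]

theorem hasPow_iff (h : CentModel t φ) [Finite G] {a p : ℕ} (ha : a < 192) (hp : p < 192) :
    φ p ∈ Subgroup.zpowers (φ a) ↔ hasPow p a = true := by
  rw [hasPow, List.any_eq_true, ← mem_powers_iff_mem_zpowers, Submonoid.mem_powers_iff]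
  constructor
  · rintro ⟨m, hm⟩
    refine ⟨m % 24, List.mem_range.2 (Nat.mod_lt _ (by norm_num)), beq_iff_eq.2 ?_⟩
    refine h.inj _ (pw_lt ha _) _ hp ?_
    rw [h.map_pw ha, ← hm, ← pow_mod_orderOf]
    conv_rhs => rw [← pow_mod_orderOf]
    have hd : orderOf (φ a) ∣ 24 := orderOf_dvd_of_pow_eq_one (by
      rw [← h.map_pw ha, pw_order a ha, h.map_zero])
    rw [Nat.mod_mod_of_dvd _ hd]
  · rintro ⟨m, -, hm⟩
    exact ⟨m, by rw [← h.map_pw ha, beq_iff_eq.1 hm]⟩

theorem mem_cl_iff (h : CentModel t φ) {a x : ℕ} (ha : a < 192) :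
    x ∈ cl a ↔ x < 192 ∧ φ x * φ a = φ a * φ x := by
  rw [cl, List.mem_filter, List.mem_range]
  exact ⟨fun ⟨hx, e⟩ => ⟨hx, ((h.com_iff ha hx).2 e).symm⟩,
    fun ⟨hx, e⟩ => ⟨hx, (h.com_iff ha hx).1 e.symm⟩⟩

theorem isConj_rep (h : CentModel t φ) {a : ℕ} (ha : a < 192) {r : ℕ × ℕ}
    (hr : r ∈ [(1, zI), (2, iI), (3, kI), (4, jI)]) (hl : lab a = r.1) : IsConj (φ r.2) (φ a) := by
  obtain ⟨hw, e⟩ := wit_spec a ha r hr hl
  have hr2 : r.2 < 192 := by
    obtain ⟨h1, h2, h3, h4⟩ := idx_lt'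
    simp only [List.mem_cons, List.not_mem_nil, or_false] at hr
    rcases hr with rfl | rfl | rfl | rfl <;> assumption
  rw [isConj_iff]
  refine ⟨φ (getC witData a), ?_⟩
  rw [← h.map_mul _ hw _ hr2, e, h.map_mul _ ha _ hw, mul_inv_cancel_right]

end CentModel

end Cfsg.Agent.M12Cent14
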