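import Cfsg.Prelude.Def_SporadicB
import Cfsg.Agent.Lib.Golay.M12
import Cfsg.Agent.M12Cent14.CentModel

/-!
# The table describes the centralizer of every 2-central involution of M₁₂
-/

set_option autoImplicit false
set_option maxRecDepth 20000

namespace Cfsg.Agent.M12Cent14

open Cfsg
open scoped Pointwise

/-- The image of a point under an element. -/
def img (a i : ℕ) : ℕ := getC elemData a / 32 ^ i % 32

/-- The table of an element. -/
def elTab (a : ℕ) : List ℕ := (List.range 24).map (img a)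

/-- Five points determining an element. -/
def fiveList : List ℕ := fixList ++ [movList.headD 0]

/-- Position of an image of five points. -/
def codeOf (l : List ℕ) : ℕ :=
  (((fixList.idxOf (l.getD 0 0) * 4 + fixList.idxOf (l.getD 1 0)) * 4 +
    fixList.idxOf (l.getD 2 0)) * 4 + fixList.idxOf (l.getD 3 0)) * 8 +
    movList.idxOf (l.getD 4 0)

theorem gen_ok : ∀ j < 3, genIdx.getD j 0 < 192 ∧ Golay.ok12 (elTab (genIdx.getD j 0)) = true := by
  decide +kernel

theorem par_ok : elTab 0 = Golay.idTab ∧ ∀ a < 192, a ≠ 0 → getC parData a < a ∧ getC genData a < 3 ∧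
    Golay.comp (elTab (getC parData a)) (elTab (genIdx.getD (getC genData a) 0)) = elTab a := by
  decide +kernel

theorem five_ok : fiveList.Nodup ∧ fiveList.length = 5 ∧
    (∀ i ∈ fiveList, i < 24 ∧ Golay.dMask.testBit i = true) := by
  decide +kernel

theorem mul_ok : ∀ a < 192, ∀ b < 192, ∀ i ∈ fiveList, img a (img b i) = img (mu a b) i := by
  decide +kernel

theorem inj_ok : ∀ a < 192, getC findData (codeOf (fiveList.map (img a))) = a := by
  decide +kernel

theorem fix_ok : ∀ i < 24, Golay.dMask.testBit i = true →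
    (img zI i = i → i ∈ fixList) ∧ (img zI i ≠ i → i ∈ movList) := by
  decide +kernel

theorem five_pts : fiveList = [fiveList.getD 0 0, fiveList.getD 1 0, fiveList.getD 2 0,
    fiveList.getD 3 0, fiveList.getD 4 0] ∧ (∀ k < 4, img zI (fiveList.getD k 0) = fiveList.getD k 0)
    ∧ img zI (fiveList.getD 4 0) ≠ fiveList.getD 4 0 := by
  decide +kernel

theorem surj_ok : ∀ a ∈ fixList, ∀ b ∈ fixList, ∀ c ∈ fixList, ∀ d ∈ fixList, ∀ e ∈ movList,
    [a, b, c, d, e].Nodup → getC findData (codeOf [a, b, c, d, e]) < 192 ∧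
      fiveList.map (img (getC findData (codeOf [a, b, c, d, e]))) = [a, b, c, d, e] := by
  decide +kernel

theorem exists_el : ∀ a, a < 192 → ∃ σ ∈ Spor.M12, Golay.Tab σ (elTab a) := by
  intro a
  induction a using Nat.strong_induction_on with
  | _ a ih =>
  intro ha
  rcases eq_or_ne a 0 with rfl | h0
  · exact ⟨1, one_mem _, par_ok.1 ▸ Golay.tab_one⟩
  · obtain ⟨hp, hj, hc⟩ := par_ok.2 a ha h0
    obtain ⟨σ, hσ, hσt⟩ := ih _ hp (hp.trans ha)
    obtain ⟨τ, hτ, hτt⟩ := Golay.exists_M12 (gen_ok _ hj).2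
    exact ⟨σ * τ, mul_mem hσ hτ, hc ▸ hσt.mul hτt⟩

/-- The elements of the table in M₁₂. -/
noncomputable def el (a : ℕ) : ↥Spor.M12 :=
  if h : a < 192 then ⟨(exists_el a h).choose, (exists_el a h).choose_spec.1⟩ else 1

theorem el_tab {a : ℕ} (h : a < 192) : Golay.Tab (el a : Equiv.Perm GolayPt) (elTab a) := by
  rw [el, dif_pos h]
  exact (exists_el a h).choose_spec.2

theorem el_pt {a i : ℕ} (h : a < 192) (hi : i < 24) :
    Golay.idx ((el a : Equiv.Perm GolayPt) (Golay.pt i)) = img a i := by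
  rw [el_tab h i hi, elTab, Golay.getD_map_range _ hi]

theorem el_ext {g g' : ↥Spor.M12} (h : ∀ i ∈ fiveList,
    Golay.idx ((g : Equiv.Perm GolayPt) (Golay.pt i)) =
      Golay.idx ((g' : Equiv.Perm GolayPt) (Golay.pt i))) : g = g' := by
  refine Subtype.ext (Golay.eq12_of_five g.2 g'.2 (s := (fiveList.map Golay.pt).toFinset)
    ?_ ?_ ?_)
  · intro p hp
    simp only [List.mem_toFinset, List.mem_map] at hp
    obtain ⟨i, hi, rfl⟩ := hp
    exact Golay.mem_D_iff.2 (by rw [Golay.idx_pt (five_ok.2.2 i hi).1]; exact (five_ok.2.2 i hi).2)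
  · rw [List.toFinset_card_of_nodup, List.length_map, five_ok.2.1]
    refine five_ok.1.map_on fun i hi j hj e => Golay.pt_inj (five_ok.2.2 i hi).1 (five_ok.2.2 j hj).1 e
  · intro p hp
    simp only [List.mem_toFinset, List.mem_map] at hp
    obtain ⟨i, hi, rfl⟩ := hp
    exact Golay.idx_injective (h i hi)

theorem el_mul {a b : ℕ} (ha : a < 192) (hb : b < 192) : el (mu a b) = el a * el b := by
  refine el_ext fun i hi => ?_
  have hi' := (five_ok.2.2 i hi).1
  have h2 : img b i < 24 := el_pt hb hi' ▸ Golay.idx_lt _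
  have h3 : (el b : Equiv.Perm GolayPt) (Golay.pt i) = Golay.pt (img b i) := by
    rw [← el_pt hb hi', Golay.pt_idx]
  rw [Subgroup.coe_mul, Equiv.Perm.mul_apply, h3, el_pt ha h2,
    el_pt (table_lt a ha b hb) hi', mul_ok a ha b hb i hi]

theorem el_inj {a b : ℕ} (ha : a < 192) (hb : b < 192) (h : el a = el b) : a = b := by
  have e : fiveList.map (img a) = fiveList.map (img b) := List.map_congr_left fun i hi => by
    rw [← el_pt ha (five_ok.2.2 i hi).1, ← el_pt hb (five_ok.2.2 i hi).1, h]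
  rw [← inj_ok a ha, ← inj_ok b hb, e]

theorem el_surj {g : ↥Spor.M12} (hg : g * el zI = el zI * g) : ∃ a < 192, el a = g := by
  obtain ⟨hz, -, -, -⟩ := idx_lt'
  obtain ⟨h5, hfx, hmv⟩ := five_pts
  have hmem : ∀ k < 5, fiveList.getD k 0 ∈ fiveList := fun k hk => by
    rw [List.getD_eq_getElem _ _ (by rw [five_ok.2.1]; exact hk)]
    exact List.getElem_mem _
  set f : ℕ → ℕ := fun k =>
    Golay.idx ((g : Equiv.Perm GolayPt) (Golay.pt (fiveList.getD k 0))) with hf
  have hD : ∀ k < 5, Golay.dMask.testBit (f k) = true := fun k hk => by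
    refine Golay.mem_D_iff.1 ((Golay.apply_mem_D g.2 _).2 ?_)
    rw [Golay.mem_D_iff, Golay.idx_pt (five_ok.2.2 _ (hmem k hk)).1]
    exact (five_ok.2.2 _ (hmem k hk)).2
  have himg : ∀ k < 5, img zI (f k) = Golay.idx ((g : Equiv.Perm GolayPt)
      (Golay.pt (img zI (fiveList.getD k 0)))) := fun k hk => by
    rw [← el_pt hz (Golay.idx_lt _), Golay.pt_idx, ← Equiv.Perm.mul_apply, ← Subgroup.coe_mul,
      ← hg, Subgroup.coe_mul, Equiv.Perm.mul_apply,
      ← el_pt hz (five_ok.2.2 _ (hmem k hk)).1, Golay.pt_idx]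
  have hF : ∀ k < 4, f k ∈ fixList := fun k hk =>
    (fix_ok _ (Golay.idx_lt _) (hD k (by omega))).1 (by rw [himg k (by omega), hfx k hk])
  have hM : f 4 ∈ movList := (fix_ok _ (Golay.idx_lt _) (hD 4 (by norm_num))).2 fun e => by
    rw [himg 4 (by norm_num)] at e
    have h1 := (g : Equiv.Perm GolayPt).injective (Golay.idx_injective e)
    have h4 := five_ok.2.2 _ (hmem 4 (by norm_num))
    refine hmv (Golay.pt_inj ?_ h4.1 h1)
    rw [← el_pt hz h4.1]
    exact Golay.idx_lt _
  have hlist : [f 0, f 1, f 2, f 3, f 4] =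
      fiveList.map fun i => Golay.idx ((g : Equiv.Perm GolayPt) (Golay.pt i)) := by
    conv_rhs => rw [h5]
    rfl
  have hnd : [f 0, f 1, f 2, f 3, f 4].Nodup := by
    rw [hlist]
    exact five_ok.1.map_on fun i hi j hj e => Golay.pt_inj (five_ok.2.2 i hi).1 (five_ok.2.2 j hj).1
      ((g : Equiv.Perm GolayPt).injective (Golay.idx_injective e))
  obtain ⟨ha, hmap⟩ := surj_ok _ (hF 0 (by norm_num)) _ (hF 1 (by norm_num)) _ (hF 2 (by norm_num))
    _ (hF 3 (by norm_num)) _ hM hnd
  rw [hlist] at hmap ha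
  refine ⟨_, ha, el_ext fun i hi => ?_⟩
  rw [el_pt ha (five_ok.2.2 i hi).1]
  exact List.map_inj_left.1 hmap i hi

/-- The enumeration of the centralizer of `el zI`. -/
theorem centModel_el : CentModel (el zI) el where
  comm a ha := by
    rw [← el_mul ha idx_lt'.1, ← el_mul idx_lt'.1 ha, ← beq_iff_eq.1 (lab_spec a ha).2.2.2]
  inj _ ha _ hb := el_inj ha hb
  surj _ := el_surj
  map_mul _ ha _ hb := el_mul ha hb
  map_z := rfl

theorem syl_mem {a : ℕ} (ha : inS a = true) : a < 192 := by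
  by_contra h
  rw [inS, Nat.testBit_lt_two_pow] at ha
  · exact Bool.false_ne_true ha
  · exact lt_of_lt_of_le (show sylMask < 2 ^ 192 by decide +kernel)
      (Nat.pow_le_pow_right (by norm_num) (not_lt.1 h))

/-- The Sylow 2-subgroup of the table. -/
noncomputable def sylSub {G : Type*} [Group G] {t : G} {φ : ℕ → G} (h : CentModel t φ) :
    Subgroup G where
  carrier := φ '' {a | inS a = true}
  one_mem' := ⟨0, syl_spec.1, h.map_zero⟩
  mul_mem' := by
    rintro _ _ ⟨a, ha, rfl⟩ ⟨b, hb, rfl⟩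
    exact ⟨mu a b, (syl_spec.2.2.2 a (syl_mem ha) ha).1 b (syl_mem hb) hb,
      h.map_mul a (syl_mem ha) b (syl_mem hb)⟩
  inv_mem' := by
    rintro _ ⟨a, ha, rfl⟩
    have hpw : ∀ m, inS (pw a m) = true := by
      intro m
      induction m with
      | zero => exact syl_spec.1
      | succ m ih =>
        exact (syl_spec.2.2.2 _ (pw_lt (syl_mem ha) m) ih).1 a (syl_mem ha) ha
    refine ⟨pw a 23, hpw 23, eq_inv_of_mul_eq_one_left ?_⟩
    rw [h.map_pw (syl_mem ha), ← pow_succ, ← h.map_pw (syl_mem ha), pw_order a (syl_mem ha),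
      h.map_zero]

theorem mem_sylSub {G : Type*} [Group G] {t : G} {φ : ℕ → G} (h : CentModel t φ) {x : G} :
    x ∈ sylSub h ↔ ∃ a, inS a = true ∧ φ a = x := Iff.rfl

theorem card_sylSub {G : Type*} [Group G] {t : G} {φ : ℕ → G} (h : CentModel t φ) :
    Nat.card (sylSub h) = 64 := by
  classical
  have e : ((sylSub h : Subgroup G) : Set G) =
      (((List.range 192).filter inS).toFinset.image φ : Finset G) := by
    ext x
    simp only [SetLike.mem_coe, mem_sylSub, Finset.coe_image, Set.mem_image, List.coe_toFinset,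
      List.mem_filter, List.mem_range, Set.mem_setOf_eq]
    exact ⟨fun ⟨a, ha, e⟩ => ⟨a, ⟨syl_mem ha, ha⟩, e⟩, fun ⟨a, ha, e⟩ => ⟨a, ha.2, e⟩⟩
  rw [← SetLike.coe_sort_coe, e, Nat.card_eq_fintype_card]
  simp only [Finset.coe_sort_coe, Fintype.card_coe]
  rw [Finset.card_image_of_injOn, List.toFinset_card_of_nodup (List.nodup_range.filter _),
    syl_spec.2.2.1]
  intro a ha b hb e
  simp only [List.coe_toFinset, List.mem_filter, List.mem_range, Set.mem_setOf_eq] at ha hb
  exact h.inj a ha.1 b hb.1 e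

theorem eq_of_central_syl {G : Type*} [Group G] {t : G} {φ : ℕ → G} (h : CentModel t φ) {x : G}
    (hx : x ∈ sylSub h) (hc : ∀ y ∈ sylSub h, y * x = x * y) (h1 : x ≠ 1) : x = t := by
  obtain ⟨a, ha, rfl⟩ := hx
  have := (syl_spec.2.2.2 a (syl_mem ha) ha).2 (List.all_eq_true.2 fun b hb => by
    simp only [List.mem_filter, List.mem_range] at hb
    exact (h.com_iff (syl_mem ha) hb.1).1 (hc _ ⟨b, hb.2, rfl⟩).symm)
  rcases this with rfl | rfl
  · exact absurd h.map_zero h1
  · exact h.map_z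

theorem mem_conj_sylow {G : Type*} [Group G] {p : ℕ} {g x : G} {P : Sylow p G} :
    x ∈ g • P ↔ ∃ y ∈ P, g * y * g⁻¹ = x := by
  rw [← SetLike.mem_coe, Sylow.coe_smul, Set.mem_smul_set]
  rfl

/-- The centralizer of every 2-central involution of M₁₂ is given by the table. -/
theorem exists_centModel (u : ↥Spor.M12) (hu : IsTwoCentralInvolution u) :
    ∃ f : ℕ → ↥Spor.M12, CentModel u f := by
  haveI : Fact (Nat.Prime 2) := ⟨Nat.prime_two⟩
  obtain ⟨ho, P, huP, hP⟩ := hu
  set P0 : Sylow 2 ↥Spor.M12 := Sylow.ofCard (sylSub centModel_el) (by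
    rw [card_sylSub, Golay.card_M12]
    rw [show (95040 : ℕ).factorization 2 = 6 from ?_]
    · norm_num
    · rw [Nat.factorization_def _ Nat.prime_two, show (95040 : ℕ) = 2 ^ 6 * 1485 by norm_num,
        padicValNat.mul (by norm_num) (by norm_num), padicValNat.prime_pow,
        padicValNat.eq_zero_of_not_dvd (by norm_num)]) with hP0
  obtain ⟨g, hg⟩ := MulAction.exists_smul_eq ↥Spor.M12 P P0
  have hconj : ∀ x, x ∈ P → g * x * g⁻¹ ∈ P0 := fun x hx => by
    rw [← hg]
    exact mem_conj_sylow.2 ⟨x, hx, rfl⟩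
  have hg' : g * u * g⁻¹ = el zI := by
    refine eq_of_central_syl centModel_el (hconj u huP) (fun y hy => ?_) ?_
    · have hy' : y ∈ g • P := hg ▸ hy
      obtain ⟨x, hx, rfl⟩ := mem_conj_sylow.1 hy'
      calc g * x * g⁻¹ * (g * u * g⁻¹) = g * (x * u) * g⁻¹ := by group
        _ = g * (u * x) * g⁻¹ := by rw [hP x hx]
        _ = g * u * g⁻¹ * (g * x * g⁻¹) := by group
    · intro e
      rw [conj_eq_one_iff] at e
      rw [e, orderOf_one] at ho
      norm_num at ho
  refine ⟨fun a => g⁻¹ * el a * g, ⟨fun a ha => ?_, fun a ha b hb e => ?_, fun x hx => ?_,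
    fun a ha b hb => ?_, ?_⟩⟩
  · have := centModel_el.comm a ha
    rw [← hg'] at this
    calc g⁻¹ * el a * g * u = g⁻¹ * (el a * (g * u * g⁻¹)) * g := by group
      _ = g⁻¹ * (g * u * g⁻¹ * el a) * g := by rw [this]
      _ = u * (g⁻¹ * el a * g) := by group
  · exact centModel_el.inj a ha b hb (mul_left_cancel (mul_right_cancel e))
  · obtain ⟨a, ha, e⟩ := centModel_el.surj (g * x * g⁻¹) (by
      rw [← hg']
      calc g * x * g⁻¹ * (g * u * g⁻¹) = g * (x * u) * g⁻¹ := by group
        _ = g * (u * x) * g⁻¹ := by rw [hx]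
        _ = g * u * g⁻¹ * (g * x * g⁻¹) := by group)
    exact ⟨a, ha, by simp only [e]; group⟩
  · simp only [centModel_el.map_mul a ha b hb]
    group
  · simp only [← hg']
    group

/-- An isomorphism of centralizers transports the table. -/
theorem centModel_of_equiv {G : Type*} [Group G] {t : G} (ht : orderOf t = 2) {u : ↥Spor.M12}
    (hu : IsTwoCentralInvolution u)
    (e : ↥(Subgroup.centralizer ({t} : Set G)) ≃* ↥(Subgroup.centralizer ({u} : Set ↥Spor.M12))) :
    ∃ φ : ℕ → G, CentModel t φ := by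
  classical
  obtain ⟨f, hf⟩ := exists_centModel u hu
  set C := Subgroup.centralizer ({u} : Set ↥Spor.M12) with hC
  have hmem : ∀ a < 192, f a ∈ C := fun a ha =>
    Subgroup.mem_centralizer_singleton_iff.2 (hf.comm a ha)
  set F : ℕ → C := fun a => if h : a < 192 then ⟨f a, hmem a h⟩ else 1 with hF
  have hFv : ∀ a < 192, (F a : ↥Spor.M12) = f a := fun a ha => by simp [hF, dif_pos ha]
  have htC : t ∈ Subgroup.centralizer ({t} : Set G) := Subgroup.mem_centralizer_singleton_iff.2 rfl
  set w : C := e ⟨t, htC⟩ with hw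
  have hcomm : ∀ x : C, x * w = w * x := fun x => by
    have h1 : e.symm x * ⟨t, htC⟩ = ⟨t, htC⟩ * e.symm x :=
      Subtype.ext (Subgroup.mem_centralizer_singleton_iff.1 (e.symm x).2)
    simpa [hw] using congrArg e h1
  obtain ⟨a, ha, hfa⟩ := hf.surj w.1 (Subgroup.mem_centralizer_singleton_iff.1 w.2)
  have hwz : F zI = w := by
    refine Subtype.ext ?_
    rw [hFv _ idx_lt'.1, ← hfa]
    rcases center_spec a ha (List.all_eq_true.2 fun b hb => by
      rw [List.mem_range] at hb
      refine (hf.com_iff ha hb).1 ?_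
      rw [hfa, ← hFv b hb]
      exact (congrArg Subtype.val (hcomm (F b))).symm) with rfl | rfl
    · exfalso
      rw [hf.map_zero] at hfa
      have h1 : (⟨t, htC⟩ : ↥(Subgroup.centralizer ({t} : Set G))) = 1 :=
        e.injective (by rw [← hw, map_one]; exact Subtype.ext hfa.symm)
      rw [show t = 1 from congrArg Subtype.val h1, orderOf_one] at ht
      norm_num at ht
    · rfl
  refine ⟨fun a => (e.symm (F a) : G), ⟨fun a _ => Subgroup.mem_centralizer_singleton_iff.1
    (e.symm (F a)).2, fun a ha b hb h => hf.inj a ha b hb ?_, fun g hg => ?_, fun a ha b hb => ?_,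
    ?_⟩⟩
  · rw [← hFv a ha, ← hFv b hb, e.symm.injective (Subtype.ext h)]
  · set x := e ⟨g, Subgroup.mem_centralizer_singleton_iff.2 hg⟩ with hx
    obtain ⟨b, hb, hfb⟩ := hf.surj x.1 (Subgroup.mem_centralizer_singleton_iff.1 x.2)
    refine ⟨b, hb, ?_⟩
    have : F b = x := Subtype.ext (by rw [hFv b hb, hfb])
    simp [this, hx]
  · have : F (mu a b) = F a * F b := Subtype.ext (by
      rw [Subgroup.coe_mul, hFv a ha, hFv b hb, hFv _ (table_lt a ha b hb), hf.map_mul a ha b hb])
    simp [this]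
  · simp [hwz, hw]

end Cfsg.Agent.M12Cent14
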