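import Cfsg.Agent.M12Cent14.Classes

/-!
# The fourth class fused with the first
-/

set_option autoImplicit false

namespace Cfsg.Agent.M12Cent14

open Subgroup

variable {G : Type*} [Group G] {t : G} {φ : ℕ → G}

theorem M_three : iI ≠ zI ∧ mu zI iI ≠ zI ∧ mu zI iI ≠ iI := by decide +kernel

namespace CentModel

variable [Finite G] [IsSimpleGroup G]

/-- All conjugates of `t` in the centralizer of `φ kI` are conjugate there. -/
theorem exists_conj_t (h : CentModel t φ) (hG : ¬ IsMulCommutative G) (hJ : IsConj t (φ jI))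
    {p : G} (hp : p ∈ nSub φ) (hc : IsConj t p) : ∃ n ∈ nSub φ, n * t * n⁻¹ = p := by
  haveI : Fact (Nat.Prime 2) := ⟨Nat.prime_two⟩
  have hk := idx_lt'.2.2.1
  obtain ⟨g, hg⟩ := isConj_iff.1 hc
  obtain ⟨b, hb, hbe⟩ := h.surj (g⁻¹ * φ kI * g) ((commute_conj (g := g)).1 (by
    rw [show g * (g⁻¹ * φ kI * g) * g⁻¹ = φ kI by group, hg]; exact (mem_cent.1 hp).symm))
  have hlb : lab b = 3 := by
    have hcl : IsConj (φ kI) (φ b) := isConj_iff.2 ⟨g⁻¹, by rw [hbe]; group⟩
    simpa using ((h.class_one hG hJ hb).2).1 hcl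
  set Q := (centralizer ({t} : Set G) ⊓ centralizer ({φ b} : Set G)).map
    (MulAut.conj g).toMonoidHom with hQ
  have hQ2 : IsPGroup 2 Q := IsPGroup.of_card (n := 4) (by
    rw [hQ, card_conj, h.card_inf hb, cl_length b hb (by omega), hlb]; norm_num)
  have hQN : Q ≤ nSub φ := by
    rintro _ ⟨x, hx, rfl⟩
    refine mem_cent.2 ?_
    change g * x * g⁻¹ * φ kI = φ kI * (g * x * g⁻¹)
    rw [show φ kI = g * φ b * g⁻¹ by rw [hbe]; group]
    exact (commute_conj (g := g)).2 (mem_cent.1 hx.2)
  obtain ⟨n, hn, hnQ⟩ := h.exists_conj_le hQ2 hQN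
  obtain ⟨x, hx, y, hy, hxy⟩ := h.exists_comm hb hlb
  have ex := hnQ (g * x * g⁻¹) ⟨x, hx, rfl⟩
  have ey := hnQ (g * y * g⁻¹) ⟨y, hy, rfl⟩
  have e : n * (g * x * g⁻¹) * n⁻¹ * (n * (g * y * g⁻¹) * n⁻¹) =
      n * p * n⁻¹ * (n * (g * y * g⁻¹) * n⁻¹ * (n * (g * x * g⁻¹) * n⁻¹)) := by
    rw [← hg]
    calc _ = n * g * (x * y) * g⁻¹ * n⁻¹ := by group
      _ = n * g * (t * (y * x)) * g⁻¹ * n⁻¹ := by rw [hxy]
      _ = _ := by group
  refine ⟨n⁻¹, inv_mem hn, ?_⟩
  rcases h.comm_or hk lab_reps.2.2.1 ex ey with e' | e'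
  · exfalso
    rw [e'] at e
    have h1 := right_eq_mul.mp e
    rw [conj_eq_one_iff] at h1
    have := (orderOf_of_isConj hc).trans h.orderOf_t
    rw [h1, orderOf_one] at this
    norm_num at this
  · rw [e', mul_right_cancel_iff] at e
    rw [e]; group

theorem exists_conj_t_K (h : CentModel t φ) (hG : ¬ IsMulCommutative G) (hJ : IsConj t (φ jI))
    {K : Subgroup G} (hK : IsHalf h K) {p : G} (hp : p ∈ nSub φ) (hc : IsConj t p) :
    ∃ k ∈ K, k * t * k⁻¹ = p := by
  obtain ⟨n, hn, e⟩ := h.exists_conj_t hG hJ hp hc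
  by_cases hnK : n ∈ K
  · exact ⟨n, hnK, e⟩
  obtain ⟨a, ha, haM⟩ := exists_outer
  have haR : φ a ∈ rSub t φ := h.mem_R_iff.2 ⟨a, ha, rfl⟩
  have haK : φ a ∉ K := fun e => by
    rw [h.inM_of_map_mem (h.cl_lt ha) ((hK.inter _ haR).1 e)] at haM
    exact Bool.false_ne_true haM.symm
  refine ⟨n * φ a, hK.mul_mem n hn _ (rSub_le_nSub haR) hnK haK, ?_⟩
  rw [← e, mul_inv_rev]
  calc n * φ a * t * ((φ a)⁻¹ * n⁻¹) = n * (φ a * t) * (φ a)⁻¹ * n⁻¹ := by group
    _ = n * (t * φ a) * (φ a)⁻¹ * n⁻¹ := by rw [mem_cent.1 haR.1]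
    _ = n * t * n⁻¹ := by group

/-- The centralizer in `K` of a conjugate of `t` is elementary abelian of order eight. -/
theorem cent_conj (h : CentModel t φ) {K : Subgroup G} (hK : IsHalf h K) {k : G} (hk : k ∈ K)
    {x : G} : x ∈ K ∧ x * (k * t * k⁻¹) = k * t * k⁻¹ * x ↔ k⁻¹ * x * k ∈ h.mSub := by
  constructor
  · rintro ⟨hx, hc⟩
    refine hK.cent_t (mul_mem (mul_mem (inv_mem hk) hx) hk) ((commute_conj (g := k)).1 ?_)
    rwa [show k * (k⁻¹ * x * k) * k⁻¹ = x by group]
  · intro hm
    have hK' := (hK.inter _ (h.mSub_le hm)).2 hm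
    refine ⟨?_, ?_⟩
    · have := mul_mem (mul_mem hk hK') (inv_mem hk)
      rwa [show k * (k⁻¹ * x * k) * k⁻¹ = x by group] at this
    · have := (commute_conj (g := k)).2 (h.mSub_comm hm h.t_mem_mSub)
      rwa [show k * (k⁻¹ * x * k) * k⁻¹ = x by group] at this

theorem commute_in_cent (h : CentModel t φ) (hG : ¬ IsMulCommutative G) (hJ : IsConj t (φ jI))
    {K : Subgroup G} (hK : IsHalf h K) {w x y : G} (hw : w ∈ K) (hc : IsConj t w) (hx : x ∈ K)
    (hy : y ∈ K) (hxw : x * w = w * x) (hyw : y * w = w * y) : x * y = y * x := by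
  obtain ⟨k, hk, rfl⟩ := h.exists_conj_t_K hG hJ hK (hK.le hw) hc
  have := (commute_conj (g := k)).2
    (h.mSub_comm ((h.cent_conj hK hk).1 ⟨hx, hxw⟩) ((h.cent_conj hK hk).1 ⟨hy, hyw⟩))
  rwa [show k * (k⁻¹ * x * k) * k⁻¹ = x by group,
    show k * (k⁻¹ * y * k) * k⁻¹ = y by group] at this

/-- An involution of `K` other than `φ kI` is a conjugate of `t`, or becomes one times `φ kI`. -/
theorem half_class (h : CentModel t φ) (hG : ¬ IsMulCommutative G) {K : Subgroup G}
    (hK : IsHalf h K) {w : G} (hw : w ∈ K) (h2 : orderOf w = 2) (hu : w ≠ φ kI) :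
    IsConj t w ∨ IsConj t (w * φ kI) := by
  obtain ⟨n, hn, hm⟩ := hK.exists_conj_mem hw (k := 1)
    (by rw [pow_one, ← h2, pow_orderOf_eq_one])
  rcases h.mSub_class hG hm (fun e => by
      rw [conj_eq_one_iff] at e; rw [e, orderOf_one] at h2; norm_num at h2)
    (fun e => hu (by
      have e' := congrArg (fun z => n⁻¹ * z * n) e
      simp only [show n⁻¹ * (n * w * n⁻¹) * n = w by group] at e'
      rw [e', mul_assoc, ← h.u_comm hn, inv_mul_cancel_left])) with e | e
  · exact Or.inl (e.trans (isConj_iff.2 ⟨n⁻¹, by group⟩))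
  · refine Or.inr (e.trans (isConj_iff.2 ⟨n⁻¹, ?_⟩))
    rw [show n⁻¹ * (n * w * n⁻¹ * φ kI) * n⁻¹⁻¹ =
      w * (n⁻¹ * φ kI * n) by group, mul_assoc n⁻¹, ← h.u_comm hn, inv_mul_cancel_left]

theorem not_both_K (h : CentModel t φ) (hG : ¬ IsMulCommutative G) (hJ : IsConj t (φ jI))
    {K : Subgroup G} (hK : IsHalf h K) {x : G} (hx : x ∈ nSub φ) (hc : IsConj t x) :
    ¬ IsConj t (x * φ kI) := by
  obtain ⟨k, hk, rfl⟩ := h.exists_conj_t_K hG hJ hK hx hc
  intro e
  refine h.not_both h.t_mem_mSub (IsConj.refl _) (e.trans (isConj_iff.2 ⟨k⁻¹, ?_⟩))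
  rw [show k⁻¹ * (k * t * k⁻¹ * φ kI) * k⁻¹⁻¹ = t * (k⁻¹ * φ kI * k) by group, mul_assoc k⁻¹,
    ← h.u_comm (hK.le hk), inv_mul_cancel_left]

theorem card_K (h : CentModel t φ) (hG : ¬ IsMulCommutative G) (hJ : IsConj t (φ jI))
    {K : Subgroup G} (hK : IsHalf h K) : Nat.card K = 24 ∨ Nat.card K = 120 := by
  classical
  set u : ↥K := ⟨φ kI, (hK.inter _ (h.mSub_le h.u_mem_mSub)).2 h.u_mem_mSub⟩ with hu
  have hu2 : orderOf u = 2 := by rw [← Subgroup.orderOf_coe]; exact h.map_kI_two
  have huu : u * u = 1 := by rw [← pow_two, ← hu2, pow_orderOf_eq_one]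
  have hucent : ∀ x : ↥K, x * u = u * x := fun x => Subtype.ext (h.u_comm (hK.le x.2))
  set U : Subgroup ↥K := zpowers u with hU
  haveI : U.Normal := ⟨fun x hx g => by
    obtain ⟨m, rfl⟩ := mem_zpowers_iff.1 hx
    rwa [show g * u ^ m * g⁻¹ = u ^ m from
      mul_inv_eq_iff_eq_mul.2 (Commute.zpow_right (hucent g) m).eq]⟩
  have hU' : ∀ {x : ↥K}, x ∈ U ↔ x = 1 ∨ x = u := by
    intro x
    constructor
    · intro hx
      obtain ⟨m, rfl⟩ := (Submonoid.mem_powers_iff _ _).1 (mem_powers_iff_mem_zpowers.2 hx)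
      obtain ⟨j, rfl | rfl⟩ := Nat.even_or_odd' m
      · exact Or.inl (by rw [pow_mul, pow_two, huu, one_pow])
      · exact Or.inr (by rw [pow_succ, pow_mul, pow_two, huu, one_pow, one_mul])
    · rintro (rfl | rfl)
      · exact one_mem _
      · exact mem_zpowers _
  set π := QuotientGroup.mk' U with hπ
  have hπeq : ∀ x y : ↥K, π x = π y ↔ y = x ∨ y = x * u := fun x y => by
    rw [hπ, QuotientGroup.mk'_apply, QuotientGroup.mk'_apply, QuotientGroup.eq, hU',
      inv_mul_eq_one, inv_mul_eq_iff_eq_mul, eq_comm (a := x)]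
  have hMK : h.mSub ≤ K := fun x hx => (hK.inter x (h.mSub_le hx)).2 hx
  set MK : Subgroup ↥K := h.mSub.subgroupOf K with hMKdef
  have hUM : U ≤ MK := zpowers_le.2 (Subgroup.mem_subgroupOf.2 h.u_mem_mSub)
  set W := MK.map π with hW
  have hcomap : W.comap π = MK := by
    rw [hW, Subgroup.comap_map_eq, QuotientGroup.ker_mk', sup_eq_left.2 hUM]
  have hMKcard : Nat.card MK = 8 := by
    rw [hMKdef, Nat.card_congr (Subgroup.subgroupOfEquivOfLe hMK).toEquiv, h.card_mSub]
  have hUcard : Nat.card U = 2 := by rw [hU, Nat.card_zpowers, hu2]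
  have hK2 : Nat.card ↥K = 2 * Nat.card (↥K ⧸ U) := by
    rw [Subgroup.card_eq_card_quotient_mul_card_subgroup U, hUcard, mul_comm]
  have hWcard : Nat.card W = 4 := by
    have h1 := W.index_comap_of_surjective (f := π) (QuotientGroup.mk'_surjective U)
    rw [hcomap] at h1
    have h2 := MK.card_mul_index
    have h3 := W.card_mul_index
    rw [hMKcard, h1, hK2] at h2
    have h4 : 0 < W.index := Nat.pos_of_ne_zero Subgroup.index_ne_zero_of_finite
    have h5 : 4 * W.index = Nat.card W * W.index := by omega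
    exact (Nat.eq_of_mul_eq_mul_right h4 h5).symm
  set tK : ↥K := ⟨t, hMK h.t_mem_mSub⟩ with htK
  -- a lift of a nontrivial involution of the quotient is conjugate to `t` up to `u`
  have hlift : ∀ s : ↥K, s ∉ U → s * s ∈ U → IsConj (π tK) (π s) := by
    intro s hs hss
    have h4 : s ^ 2 ^ 2 = 1 := by
      rw [show (2 : ℕ) ^ 2 = 2 * 2 by norm_num, pow_mul, pow_two s, pow_two]
      rcases hU'.1 hss with e | e <;> rw [e]
      · rw [one_mul]
      · exact huu
    obtain ⟨n, hn, hm⟩ := hK.exists_conj_mem s.2 (k := 2) (congrArg Subtype.val h4)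
    have hs2 : (s : G) * s = 1 := by
      have := h.mSub_sq hm
      rwa [conj_mul, conj_eq_one_iff] at this
    have hord : orderOf (s : G) = 2 := orderOf_eq_prime (by rw [pow_two]; exact hs2) fun e =>
      hs (by rw [show s = 1 from Subtype.ext e]; exact one_mem _)
    have key : ∀ x : ↥K, IsConj t (x : G) → IsConj (π tK) (π x) := by
      intro x hx
      obtain ⟨k, hk, hke⟩ := h.exists_conj_t_K hG hJ hK (hK.le x.2) hx
      rw [isConj_iff]
      refine ⟨π ⟨k, hk⟩, ?_⟩
      rw [← π.map_inv, ← π.map_mul, ← π.map_mul]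
      exact congrArg π (Subtype.ext hke)
    rcases h.half_class hG hK s.2 hord (fun e => hs (hU'.2 (Or.inr (Subtype.ext e)))) with e | e
    · exact key s e
    · rw [show π s = π (s * u) from (hπeq _ _).2 (Or.inr rfl)]
      exact key (s * u) e
  have hF : J2Order38.FourHyp W := by
    refine ⟨hWcard, ?_, ?_, ?_⟩
    · rintro _ ⟨x, hx, rfl⟩
      rw [← π.map_mul, show x * x = 1 from Subtype.ext (h.mSub_sq (Subgroup.mem_subgroupOf.1 hx)),
        π.map_one]
    · rintro _ ⟨m, hm, rfl⟩ hm1
      have hmM : (m : G) ∈ h.mSub := Subgroup.mem_subgroupOf.1 hm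
      have hmU : m ∉ U := fun e => hm1 (by rw [hπ, QuotientGroup.mk'_apply]; exact (QuotientGroup.eq_one_iff m).2 e)
      have hm1' : (m : G) ≠ 1 := fun e => hmU (hU'.2 (Or.inl (Subtype.ext e)))
      have hmu : (m : G) ≠ φ kI := fun e => hmU (hU'.2 (Or.inr (Subtype.ext e)))
      ext q
      obtain ⟨x, rfl⟩ := QuotientGroup.mk'_surjective U q
      rw [mem_cent, ← hπ, ← π.map_mul, ← π.map_mul, hπeq]
      constructor
      · intro hx
        have hxm : (x : G) * m = m * x := by
          rcases hx with e | e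
          · exact congrArg Subtype.val e.symm
          · exfalso
            have e' : (m : G) * x = x * m * φ kI := congrArg Subtype.val e
            have hcj : IsConj ((m : G) * φ kI) (m : G) := isConj_iff.2 ⟨x, by
              rw [mul_inv_eq_iff_eq_mul, e', mul_assoc]⟩
            rcases h.mSub_class hG hmM hm1' hmu with e1 | e1
            · exact h.not_both hmM e1 (e1.trans hcj.symm)
            · exact h.not_both hmM (e1.trans hcj) e1
        refine Subgroup.mem_map_of_mem π (Subgroup.mem_subgroupOf.2 ?_)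
        rcases h.mSub_class hG hmM hm1' hmu with e1 | e1
        · obtain ⟨k, hk, hke⟩ := h.exists_conj_t_K hG hJ hK (hK.le m.2) e1
          have hle : ∀ y ∈ h.mSub, k⁻¹ * y * k ∈ h.mSub := fun y hy =>
            (h.cent_conj hK hk).1 ⟨hMK hy, by rw [hke]; exact h.mSub_comm hy hmM⟩
          have heq : h.mSub.map (MulAut.conj k⁻¹).toMonoidHom = h.mSub := by
            refine Subgroup.eq_of_le_of_card_ge ?_ (by rw [card_conj])
            rintro _ ⟨y, hy, rfl⟩
            simpa using hle y hy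
          have h1 := (h.cent_conj hK hk).1 ⟨x.2, by rw [hke]; exact hxm⟩
          rw [← heq] at h1
          obtain ⟨y, hy, hye⟩ := h1
          have : y = (x : G) := by
            simp only [MulEquiv.coe_toMonoidHom, MulAut.conj_apply, inv_inv] at hye
            exact mul_left_cancel (mul_right_cancel hye)
          exact this ▸ hy
        · have hmu' : (m : G) * φ kI ∈ h.mSub := mul_mem hmM h.u_mem_mSub
          have hxm' : (x : G) * (m * φ kI) = m * φ kI * x := by
            rw [← mul_assoc, hxm, mul_assoc, h.u_comm (hK.le x.2), mul_assoc]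
          obtain ⟨k, hk, hke⟩ := h.exists_conj_t_K hG hJ hK (hK.le (hMK hmu')) e1
          have hle : ∀ y ∈ h.mSub, k⁻¹ * y * k ∈ h.mSub := fun y hy =>
            (h.cent_conj hK hk).1 ⟨hMK hy, by rw [hke]; exact h.mSub_comm hy hmu'⟩
          have heq : h.mSub.map (MulAut.conj k⁻¹).toMonoidHom = h.mSub := by
            refine Subgroup.eq_of_le_of_card_ge ?_ (by rw [card_conj])
            rintro _ ⟨y, hy, rfl⟩
            simpa using hle y hy
          have h1 := (h.cent_conj hK hk).1 ⟨x.2, by rw [hke]; exact hxm'⟩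
          rw [← heq] at h1
          obtain ⟨y, hy, hye⟩ := h1
          have : y = (x : G) := by
            simp only [MulEquiv.coe_toMonoidHom, MulAut.conj_apply, inv_inv] at hye
            exact mul_left_cancel (mul_right_cancel hye)
          exact this ▸ hy
      · intro hx
        have hxM : x ∈ MK := by
          rw [← hcomap]; exact hx
        exact Or.inl (Subtype.ext (h.mSub_comm hmM (Subgroup.mem_subgroupOf.1 hxM)))
    · intro q hq w hw hw1
      obtain ⟨s, rfl⟩ := QuotientGroup.mk'_surjective U q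
      obtain ⟨m, hm, rfl⟩ := hw
      have hsU : s ∉ U := fun e => by
        rw [QuotientGroup.mk'_apply, (QuotientGroup.eq_one_iff s).2 e, orderOf_one] at hq
        norm_num at hq
      have hss : s * s ∈ U := by
        rw [← QuotientGroup.eq_one_iff, QuotientGroup.mk_mul, ← pow_two, ← hq]
        exact pow_orderOf_eq_one _
      have hmU : m ∉ U := fun e => hw1 (by
        rw [hπ, QuotientGroup.mk'_apply]; exact (QuotientGroup.eq_one_iff m).2 e)
      have hmm : m * m ∈ U := by
        rw [show m * m = 1 from Subtype.ext (h.mSub_sq (Subgroup.mem_subgroupOf.1 hm))]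
        exact one_mem _
      exact (hlift m hmU hmm).symm.trans (hlift s hsU hss)
  rcases hF.card_eq with e | e <;> omega

/-- The number of pairs with the power `φ kI`. -/
theorem card_pairs_u (h : CentModel t φ) (hG : ¬ IsMulCommutative G) (hJ : IsConj t (φ jI))
    {K : Subgroup G} (hK : IsHalf h K) {p : ℕ} (hp : Nat.card K = 8 * p) :
    Nat.card {q : G × G //
      IsConj t q.1 ∧ IsConj (φ kI) q.2 ∧ φ kI ∈ zpowers (q.1 * q.2)} + 2 * p = p * p := by
  classical
  haveI : Fact (Nat.Prime 2) := ⟨Nat.prime_two⟩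
  letI := Fintype.ofFinite G
  have hu := h.map_kI_two
  have hMK : h.mSub ≤ K := fun x hx => (hK.inter x (h.mSub_le hx)).2 hx
  have huK : φ kI ∈ K := hMK h.u_mem_mSub
  have huu : φ kI * φ kI = 1 := by rw [← pow_two, ← hu, pow_orderOf_eq_one]
  set Z := Finset.univ.filter (fun x : G => x ∈ K ∧ IsConj t x) with hZ
  have hmemZ : ∀ x, x ∈ Z ↔ x ∈ K ∧ IsConj t x := fun x => by simp [hZ]
  have hnot : ∀ x ∈ K, IsConj t x → IsConj (φ kI) (x * φ kI) := by
    intro x hx hc
    have hc2 := (orderOf_of_isConj hc).trans h.orderOf_t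
    have hxu : x * φ kI = φ kI * x := h.u_comm (hK.le hx)
    have h2 : orderOf (x * φ kI) = 2 := by
      refine orderOf_eq_prime ?_ fun e => ?_
      · rw [pow_two, mul_assoc, ← mul_assoc (φ kI), ← hxu, mul_assoc x (φ kI), huu, mul_one,
          ← pow_two, ← hc2, pow_orderOf_eq_one]
      · rw [mul_eq_one_iff_eq_inv,
          inv_eq_of_mul_eq_one_left huu] at e
        exact h.not_isConj_kI (e ▸ hc)
    exact (h.cover hG _ h2).resolve_left (h.not_both_K hG hJ hK (hK.le hx) hc)
  -- pairs of conjugates of `t` in `K`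
  set F := (Z ×ˢ Z).filter (fun q => q.1 = q.2 ∨ ¬ Commute q.1 q.2) with hF
  have hodd : ∀ x ∈ K, ∀ y ∈ K, IsConj t x → IsConj t y → ¬ Commute x y →
      φ kI ∈ zpowers (x * y * φ kI) := by
    intro x hx y hy hcx hcy hnc
    have hx2 := (orderOf_of_isConj hcx).trans h.orderOf_t
    have hy2 := (orderOf_of_isConj hcy).trans h.orderOf_t
    have hxy : x * y ∈ K := mul_mem hx hy
    have hcomm : Commute (x * y) (φ kI) := h.u_comm (hK.le hxy)
    rcases Nat.even_or_odd (orderOf (x * y)) with ⟨m, hm⟩ | hn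
    · exfalso
      set w := (x * y) ^ m with hw
      have hww : w * w = 1 := by rw [hw, ← pow_add, ← hm, pow_orderOf_eq_one]
      have hpos : 0 < orderOf (x * y) := (isOfFinOrder_of_finite _).orderOf_pos
      have hw2 : orderOf w = 2 := orderOf_eq_prime (by rw [pow_two]; exact hww) fun e => by
        have := Nat.le_of_dvd (by omega) (orderOf_dvd_of_pow_eq_one e)
        omega
      have hwK : w ∈ K := pow_mem hxy m
      obtain ⟨cx, cy⟩ := commute_of_mem_zpowers hx2 hy2 hw2
        (npow_mem_zpowers (x * y) m)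
      by_cases hwu : w = φ kI
      · obtain ⟨j, rfl | rfl⟩ := Nat.even_or_odd' m
        · refine h.no_sqrt (pow_mem (hK.le hxy) j) ?_
          rw [← pow_add, ← two_mul, ← hw, hwu]
        · -- `y` would be conjugate to `x * φ kI`
          refine h.not_both_K hG hJ hK (hK.le hx) hcx (hcy.trans (isConj_iff.2
            ⟨(x * y) ^ (-(j : ℤ)), ?_⟩))
          have hxx : x * x = 1 := by rw [← pow_two, ← hx2, pow_orderOf_eq_one]
          have hyy : y * y = 1 := by rw [← pow_two, ← hy2, pow_orderOf_eq_one]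
          have hinv : ∀ i : ℕ, y * (x * y) ^ i = ((x * y) ^ i)⁻¹ * y := by
            intro i
            rw [← inv_pow, mul_inv_rev, inv_eq_of_mul_eq_one_left hxx,
              inv_eq_of_mul_eq_one_left hyy]
            induction i with
            | zero => simp
            | succ i ih => rw [pow_succ, ← mul_assoc, ih, pow_succ]; group
          rw [zpow_neg, zpow_natCast, inv_inv, mul_assoc, hinv, ← hwu, hw]
          have e3 : x * (x * y) = y := by rw [← mul_assoc, hxx, one_mul]
          have e4 : x * ((x * y) ^ (2 * j + 1)) = y * (x * y) ^ (2 * j) := by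
            rw [pow_succ', ← mul_assoc, e3]
          rw [e4, two_mul, pow_add, ← mul_assoc y, hinv, mul_assoc _ y, hinv]
      · rcases h.half_class hG hK hwK hw2 hwu with e | e
        · exact hnc (h.commute_in_cent hG hJ hK hwK e hx hy cx cy)
        · refine hnc (h.commute_in_cent hG hJ hK (mul_mem hwK huK) e hx hy ?_ ?_)
          · rw [← mul_assoc, cx, mul_assoc, h.u_comm (hK.le hx), mul_assoc]
          · rw [← mul_assoc, cy, mul_assoc, h.u_comm (hK.le hy), mul_assoc]
    · refine mem_powers_iff_mem_zpowers.1 ((Submonoid.mem_powers_iff _ _).2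
        ⟨orderOf (x * y), ?_⟩)
      rw [hcomm.mul_pow, pow_orderOf_eq_one, one_mul]
      obtain ⟨j, hj⟩ := hn
      rw [hj, pow_succ, pow_mul, pow_two, huu, one_pow, one_mul]
  have hset : {q : G × G | IsConj t q.1 ∧ IsConj (φ kI) q.2 ∧ φ kI ∈ zpowers (q.1 * q.2)} =
      ((F.image fun q => (q.1, q.2 * φ kI) : Finset (G × G)) : Set (G × G)) := by
    ext ⟨x, y⟩
    simp only [Set.mem_setOf_eq, Finset.coe_image, Set.mem_image, Finset.mem_coe, hF,
      Finset.mem_filter, Finset.mem_product, hmemZ, Prod.mk.injEq, Prod.exists]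
    constructor
    · rintro ⟨hx, hy, hm⟩
      obtain ⟨cx, cy⟩ := commute_of_mem_zpowers ((orderOf_of_isConj hx).trans h.orderOf_t)
        ((orderOf_of_isConj hy).trans hu) hu hm
      have hxK := hK.mem_of_isConj (mem_cent.2 cx) hx
      have hy2 := (orderOf_of_isConj hy).trans hu
      have hyK : y ∈ K := by
        by_contra hyK
        exact hK.not_mem_powers (mul_mem (hK.le hxK) (mem_cent.2 cy))
          (fun e => hyK ((K.mul_mem_cancel_left hxK).1 e)) hm
      have hyu : y ≠ φ kI := fun e => by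
        rw [e] at hm
        rw [← mem_powers_iff_mem_zpowers, Submonoid.mem_powers_iff] at hm
        obtain ⟨m, hm⟩ := hm
        have hxx : x * x = 1 := by
          rw [← pow_two, ← h.orderOf_t, ← orderOf_of_isConj hx, pow_orderOf_eq_one]
        rw [(show Commute x (φ kI) from cx).mul_pow] at hm
        obtain ⟨j, rfl | rfl⟩ := Nat.even_or_odd' m
        · rw [pow_mul, pow_mul, pow_two, pow_two, hxx, huu, one_pow, one_mul] at hm
          rw [← hm, orderOf_one] at hu
          norm_num at hu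
        · rw [pow_succ, pow_succ, pow_mul, pow_mul, pow_two, pow_two, hxx, huu, one_pow, one_mul,
            one_mul, mul_eq_right] at hm
          have := (orderOf_of_isConj hx).trans h.orderOf_t
          rw [hm, orderOf_one] at this
          norm_num at this
      have hy' : IsConj t (y * φ kI) := (h.half_class hG hK hyK hy2 hyu).resolve_left
        fun e => h.not_isConj_kI (e.trans hy.symm)
      refine ⟨x, y * φ kI, ⟨⟨⟨hxK, hx⟩, mul_mem hyK huK, hy'⟩, ?_⟩, rfl,
        by rw [mul_assoc, huu, mul_one]⟩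
      rw [or_iff_not_imp_left]
      intro hne hc
      rw [show x * y = x * (y * φ kI) * φ kI by rw [mul_assoc, mul_assoc, huu, mul_one],
        ← mem_powers_iff_mem_zpowers, Submonoid.mem_powers_iff] at hm
      obtain ⟨m, hm⟩ := hm
      have hxx : x * x = 1 := by
        rw [← pow_two, ← h.orderOf_t, ← orderOf_of_isConj hx, pow_orderOf_eq_one]
      have hy2' : (y * φ kI) * (y * φ kI) = 1 := by
        rw [← pow_two, ← h.orderOf_t, ← orderOf_of_isConj hy', pow_orderOf_eq_one]
      have hd : (x * (y * φ kI) * φ kI) ^ 2 = 1 := by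
        rw [(show Commute (x * (y * φ kI)) (φ kI) from
          h.u_comm (hK.le (mul_mem hxK (mul_mem hyK huK)))).mul_pow, hc.mul_pow, pow_two, pow_two,
          pow_two, hxx, hy2', huu, one_mul, one_mul]
      obtain ⟨j, rfl | rfl⟩ := Nat.even_or_odd' m
      · rw [pow_mul, hd, one_pow] at hm
        rw [← hm, orderOf_one] at hu
        norm_num at hu
      · rw [pow_succ, pow_mul, hd, one_pow, one_mul, mul_eq_right,
          mul_eq_one_iff_eq_inv, inv_eq_of_mul_eq_one_left hy2'] at hm
        exact hne hm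
    · rintro ⟨a, b, ⟨⟨⟨haK, ha⟩, hbK, hb⟩, hor⟩, rfl, rfl⟩
      refine ⟨ha, hnot b hbK hb, ?_⟩
      rw [← mul_assoc]
      by_cases hab : a = b
      · subst hab
        have : a * a = 1 := by
          rw [← pow_two, ← h.orderOf_t, ← orderOf_of_isConj ha, pow_orderOf_eq_one]
        rw [this, one_mul]; exact mem_zpowers _
      · exact hodd a haK b hbK ha hb (hor.resolve_left hab)
  -- the number of conjugates
  have hZcard : Z.card = p := by
    set tK : ↥K := ⟨t, hMK h.t_mem_mSub⟩ with htK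
    have hcl : Nat.card {x : ↥K // IsConj tK x} = Z.card := by
      rw [← Nat.card_eq_finsetCard]
      refine Nat.card_congr
        { toFun := fun x => ⟨x.1.1, (hmemZ _).2 ⟨x.1.2, K.subtype.map_isConj x.2⟩⟩
          invFun := fun x => ⟨⟨x.1, ((hmemZ _).1 x.2).1⟩, ?_⟩
          left_inv := fun x => rfl
          right_inv := fun x => rfl }
      obtain ⟨k, hk, e⟩ := h.exists_conj_t_K hG hJ hK (hK.le ((hmemZ _).1 x.2).1) ((hmemZ _).1 x.2).2
      exact isConj_iff.2 ⟨⟨k, hk⟩, Subtype.ext e⟩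
    have hcent : centralizer ({tK} : Set ↥K) = h.mSub.subgroupOf K := by
      ext x
      rw [mem_cent, Subgroup.mem_subgroupOf]
      exact ⟨fun e => hK.cent_t x.2 (congrArg Subtype.val e),
        fun e => Subtype.ext (h.mSub_comm e h.t_mem_mSub)⟩
    have := S1875.card_class tK
    rw [hcl, hcent, Nat.card_congr (Subgroup.subgroupOfEquivOfLe hMK).toEquiv, h.card_mSub,
      hp] at this
    omega
  have h3 : ∀ x ∈ Z, (Z.filter fun y => ¬ (x = y ∨ ¬ Commute x y)).card = 2 := by
    intro x hx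
    obtain ⟨hxK, hxc⟩ := (hmemZ x).1 hx
    obtain ⟨k, hk, rfl⟩ := h.exists_conj_t_K hG hJ hK (hK.le hxK) hxc
    have hz := idx_lt'.1
    have hi := idx_lt'.2.1
    have hzi := table_lt zI hz iI hi
    obtain ⟨hne1, hne2, hne3⟩ := M_three
    have hiM : φ iI ∈ h.mSub := ⟨iI, hi, M_spec.2.2.1, rfl⟩
    have hziM : φ (mu zI iI) ∈ h.mSub := by
      rw [h.map_mul _ hz _ hi, h.map_z]; exact mul_mem h.t_mem_mSub hiM
    have e : (Z.filter fun y => ¬ (k * t * k⁻¹ = y ∨ ¬ Commute (k * t * k⁻¹) y)) =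
        ({k * φ iI * k⁻¹, k * φ (mu zI iI) * k⁻¹} : Finset G) := by
      ext y
      simp only [Finset.mem_filter, hmemZ, not_or, not_not, Finset.mem_insert,
        Finset.mem_singleton]
      constructor
      · rintro ⟨⟨hyK, hyc⟩, hne, hcy⟩
        obtain ⟨a, ha, haM, hae⟩ := (h.cent_conj hK hk).1 ⟨hyK, hcy.eq.symm⟩
        have hy : y = k * φ a * k⁻¹ := by rw [hae]; group
        have hac : IsConj t (φ a) := hyc.trans (isConj_iff.2 ⟨k⁻¹, by rw [hy]; group⟩)
        have hl := ((h.class_one hG hJ ha).1).1 hac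
        have h4 := (R_spec.2.2 a (inM_iff a ha haM)).2.1
        simp only [List.mem_cons, List.not_mem_nil, or_false] at hl
        rcases ((M_class a ha haM).2 (hl.imp_right (·.resolve_right h4))).1 with rfl | rfl | rfl
        · rw [h.map_z] at hy; exact absurd hy.symm hne
        · exact Or.inl hy
        · exact Or.inr hy
      · have main : ∀ a < 192, a ≠ zI → φ a ∈ h.mSub → IsConj t (φ a) →
            (k * φ a * k⁻¹ ∈ K ∧ IsConj t (k * φ a * k⁻¹)) ∧ ¬ k * t * k⁻¹ = k * φ a * k⁻¹ ∧
              Commute (k * t * k⁻¹) (k * φ a * k⁻¹) := fun a ha hne hm hc =>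
          ⟨⟨mul_mem (mul_mem hk (hMK hm)) (inv_mem hk), hc.trans (isConj_iff.2 ⟨k, rfl⟩)⟩,
            fun e => hne (h.inj a ha zI hz (by
              rw [h.map_z]; exact (mul_left_cancel (mul_right_cancel e)).symm)),
            (commute_conj (g := k)).2 (h.mSub_comm h.t_mem_mSub hm)⟩
        rintro (rfl | rfl)
        · exact main iI hi hne1 hiM (h.isConj_two hG hi lab_reps.2.1)
        · exact main _ hzi hne2 hziM (h.isConj_two hG hzi (center_two iI hi lab_reps.2.1).1)
    rw [e, Finset.card_pair]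
    intro e'
    exact hne3 (h.inj iI hi _ hzi (mul_left_cancel (mul_right_cancel e'))).symm
  have hFc : F.card + 2 * p = p * p := by
    have h1 := Finset.card_filter_add_card_filter_not (s := Z ×ˢ Z)
      (fun q => q.1 = q.2 ∨ ¬ Commute q.1 q.2)
    have h2 : ((Z ×ˢ Z).filter fun q => ¬ (q.1 = q.2 ∨ ¬ Commute q.1 q.2)).card = 2 * p := by
      rw [Finset.card_filter, Finset.sum_product, ← hZcard, mul_comm,
        Finset.sum_congr rfl (fun x hx => ?_), Finset.sum_const, smul_eq_mul]
      rw [← Finset.card_filter]; exact h3 x hx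
    rw [← hF, h2, Finset.card_product, hZcard] at h1
    exact h1
  have hcard : Nat.card {q : G × G //
      IsConj t q.1 ∧ IsConj (φ kI) q.2 ∧ φ kI ∈ zpowers (q.1 * q.2)} = F.card := by
    change Nat.card ↥{q : G × G |
      IsConj t q.1 ∧ IsConj (φ kI) q.2 ∧ φ kI ∈ zpowers (q.1 * q.2)} = _
    rw [hset, Nat.card_eq_fintype_card]
    simp only [Finset.coe_sort_coe, Fintype.card_coe]
    refine Finset.card_image_of_injective _ ?_
    rintro ⟨a, b⟩ ⟨c, d⟩ e
    simp only [Prod.mk.injEq, mul_left_inj] at e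
    rw [e.1, e.2]
  rw [hcard]; exact hFc

theorem card_G_one (h : CentModel t φ) (hG : ¬ IsMulCommutative G) (hJ : IsConj t (φ jI)) :
    Nat.card G = 12096 ∨ Nat.card G = 95040 := by
  obtain ⟨K, hK⟩ := h.exists_isHalf hG
  have hu := h.map_kI_two
  have e1 := h.card_pairs_t h.orderOf_t hu (fun a ha => (h.class_one hG hJ ha).1)
    fun a ha => (h.class_one hG hJ ha).2
  have := S0213.result t (φ kI) h.orderOf_t hu h.not_isConj_kI (h.cover hG)
  rw [e1, pairs_case_one.1, h.card_cent, show centralizer ({φ kI} : Set G) = nSub φ from rfl,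
    hK.card] at this
  rcases h.card_K hG hJ hK with e | e
  · have e2 := h.card_pairs_u hG hJ hK (p := 3) (by omega)
    left; omega
  · have e2 := h.card_pairs_u hG hJ hK (p := 15) (by omega)
    right; omega

end CentModel

end Cfsg.Agent.M12Cent14
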