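import Cfsg.Agent.M12Cent14.Classes

/-!
# The fourth class fused with the third
-/

set_option autoImplicit false

namespace Cfsg.Agent.M12Cent14

open Subgroup

variable {G : Type*} [Group G] {t : G} {φ : ℕ → G}

namespace CentModel

variable [Finite G] [IsSimpleGroup G]

theorem mem_mSub_of_comm (h : CentModel t φ) {x : G} (hx : x ∈ rSub t φ) {b : ℕ}
    (hb : b < 192) (hbi : b = iI ∨ b = mu zI iI) (hc : x * φ b = φ b * x) : x ∈ h.mSub := by
  obtain ⟨a, ha, rfl⟩ := h.mem_R_iff.1 hx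
  obtain ⟨ha', hak⟩ := (h.mem_cl_iff idx_lt'.2.2.1).1 ha
  have hz := idx_lt'.1
  have hi := idx_lt'.2.1
  refine ⟨a, ha', Bool.and_eq_true_iff.2 ⟨(h.com_iff idx_lt'.2.2.1 ha').1 hak.symm, ?_⟩, rfl⟩
  refine (h.com_iff hi ha').1 ?_
  rcases hbi with rfl | rfl
  · exact hc.symm
  · rw [h.map_mul _ hz _ hi, h.map_z] at hc
    refine mul_left_cancel (a := t) ?_
    rw [← mul_assoc, ← mul_assoc, ← hc, ← mul_assoc, h.comm a ha']

/-- In the second case the involutions `b` of the second class in `M` have the centralizer `M` in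
the centralizer of `φ kI`. -/
theorem cent_two (h : CentModel t φ) (hG : ¬ IsMulCommutative G) (hJ : IsConj (φ kI) (φ jI))
    {b : ℕ} (hb : b < 192) (hbi : b = iI ∨ b = mu zI iI) (hlb : lab b = 2) (hbM : inM b = true) :
    centralizer ({φ b} : Set G) ⊓ nSub φ = h.mSub := by
  haveI : Fact (Nat.Prime 2) := ⟨Nat.prime_two⟩
  have hk := idx_lt'.2.2.1
  obtain ⟨g, hg⟩ := isConj_iff.1 (h.isConj_two hG hb hlb)
  obtain ⟨c, hc, hce, hc2, hcard⟩ := h.exists_back hb hg
  have hlc : lab c = 2 := h.lab_eq_of_card hc hc2 (by omega) (by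
    rw [hcard, h.card_inf hb, cl_length b hb (by omega), hlb])
  have hbm : φ b ∈ h.mSub := ⟨b, hb, hbM, rfl⟩
  have hbu : φ b * φ kI = φ kI * φ b := h.u_comm (rSub_le_nSub (h.mSub_le hbm))
  obtain ⟨k', hk', hke⟩ := h.surj (g⁻¹ * φ kI * g) ((commute_conj (g := g)).1 (by
    rw [show g * (g⁻¹ * φ kI * g) * g⁻¹ = φ kI by group, hg]; exact hbu.symm))
  have hgc : g * φ c * g⁻¹ = t := by rw [hce]; group
  have hgk : g * φ k' * g⁻¹ = φ kI := by rw [hke]; group
  have hkc : k' ∈ cl c := (h.mem_cl_iff hc).2 ⟨hk', (commute_conj (g := g)).1 (by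
    rw [hgc, hgk]; exact h.comm kI hk)⟩
  have hlk : lab k' = 4 := by
    have hcl : IsConj (φ kI) (φ k') := isConj_iff.2 ⟨g⁻¹, by rw [hke]; group⟩
    have hm := ((h.class_two hG hJ hk').2).1 hcl
    simp only [List.mem_cons, List.not_mem_nil, or_false] at hm
    refine hm.resolve_left fun h3 => ?_
    have hkb : kI ∈ cl b := (h.mem_cl_iff hb).2 ⟨hk, hbu.symm⟩
    obtain ⟨hall, y, hy, hly, hne⟩ := square_two b hb hlb kI hkb lab_reps.2.2.1
    obtain ⟨hy', hyb⟩ := (h.mem_cl_iff hb).1 hy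
    have hsq := (hall y hy hly).resolve_left hne
    obtain ⟨y', hy'', hye⟩ := h.surj (g⁻¹ * φ y * g) ((commute_conj (g := g)).1 (by
      rw [show g * (g⁻¹ * φ y * g) * g⁻¹ = φ y by group, hg]; exact hyb))
    have hgy : g * φ y' * g⁻¹ = φ y := by rw [hye]; group
    have hty : IsConj t (φ y') := (h.isConj_two hG hy' hly).trans
      (isConj_iff.2 ⟨g⁻¹, by rw [hye]; group⟩)
    have hm' := ((h.class_two hG hJ hy'').1).1 hty
    simp only [List.mem_cons, List.not_mem_nil, or_false] at hm'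
    have hnz : φ (mu (mu k' y') (mu k' y')) ≠ 1 := fun e => by
      refine hne (h.inj _ (table_lt _ (table_lt _ hk _ hy') _ (table_lt _ hk _ hy')) 0 (by norm_num) ?_)
      rw [h.map_mul _ (table_lt _ hk _ hy') _ (table_lt _ hk _ hy'), h.map_mul _ hk _ hy',
        ← hgk, ← hgy, conj_mul, conj_mul, ← h.map_mul _ hk' _ hy'',
        ← h.map_mul _ (table_lt _ hk' _ hy'') _ (table_lt _ hk' _ hy''), e, h.map_zero]
      group
    have hy2 : lab y' = 2 := hm'.resolve_left fun h1 => hnz (by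
      obtain rfl := (lab_spec y' hy'').2.2.1 h1
      rw [h.map_mul _ (table_lt _ hk' _ hy'') _ (table_lt _ hk' _ hy''), h.map_mul _ hk' _ hy'',
        h.map_z, mul_assoc, ← mul_assoc t, ← h.comm k' hk', mul_assoc,
        ← pow_two t, ← h.orderOf_t, pow_orderOf_eq_one, mul_one,
        ← h.map_mul _ hk' _ hk', ((lab_spec k' hk').1.1 (by rw [h3]; norm_num)).2, h.map_zero])
    have hyc : y' ∈ cl c := (h.mem_cl_iff hc).2 ⟨hy'', (commute_conj (g := g)).1 (by
      rw [hgc, hgy]; exact h.comm y hy')⟩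
    have hsq' : φ (mu (mu k' y') (mu k' y')) = t := by
      rcases (square_two c hc hlc k' hkc h3).1 y' hyc hy2 with e | e
      · exact absurd (e ▸ h.map_zero) hnz
      · rw [e, h.map_z]
    have e1 : φ kI * φ y * (φ kI * φ y) = t := by
      rw [← h.map_mul _ hk _ hy', ← h.map_mul _ (table_lt _ hk _ hy') _ (table_lt _ hk _ hy'), hsq,
        h.map_z]
    have e2 : g * t * g⁻¹ = t := by
      conv_lhs => rw [← hsq', h.map_mul _ (table_lt _ hk' _ hy'') _ (table_lt _ hk' _ hy''),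
        h.map_mul _ hk' _ hy'', ← conj_mul, ← conj_mul, hgk, hgy]
      exact e1
    rw [hg, ← h.map_z] at e2
    rw [h.inj b hb zI idx_lt'.1 e2, lab_reps.1] at hlb
    norm_num at hlb
  refine (Subgroup.eq_of_le_of_card_ge ?_ ?_).symm
  · exact fun x hx => ⟨mem_cent.2 (h.mSub_comm hx hbm), rSub_le_nSub (h.mSub_le hx)⟩
  · have key : (centralizer ({t} : Set G) ⊓ centralizer ({φ k'} : Set G)).map
        (MulAut.conj g).toMonoidHom = centralizer ({φ b} : Set G) ⊓ nSub φ := by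
      ext x
      rw [Subgroup.mem_map_equiv, MulAut.conj_symm_apply, Subgroup.mem_inf, Subgroup.mem_inf,
        nSub, mem_cent, mem_cent, mem_cent, mem_cent, ← commute_conj (g := g) (y := t),
        ← commute_conj (g := g) (y := φ k'), hg, hgk,
        show g * (g⁻¹ * x * g) * g⁻¹ = x by group]
    rw [← key, card_conj, h.card_inf hk', cl_length k' hk' (by omega), hlk, h.card_mSub]
    rfl

theorem card_nSub_two (h : CentModel t φ) (hG : ¬ IsMulCommutative G)
    (hJ : IsConj (φ kI) (φ jI)) : nSub φ = rSub t φ := by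
  classical
  haveI : Fact (Nat.Prime 2) := ⟨Nat.prime_two⟩
  obtain ⟨K, hK⟩ := h.exists_isHalf hG
  have hz := idx_lt'.1
  have hi := idx_lt'.2.1
  have hzi := table_lt zI hz iI hi
  have hlzi : lab (mu zI iI) = 2 := (center_two iI hi lab_reps.2.1).1
  have hiM : inM iI = true := M_spec.2.2.1
  have hziM : inM (mu zI iI) = true :=
    ((M_spec.2.2.2.2.2 zI hz M_spec.2.1).2 iI hi hiM).2
  -- elements with the centralizer `M` in `K`
  have hC : ∀ {b}, b = zI ∨ b = iI ∨ b = mu zI iI → ∀ x ∈ K, x * φ b = φ b * x → x ∈ h.mSub := by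
    rintro b (rfl | rfl | rfl) x hx hc
    · rw [h.map_z] at hc; exact hK.cent_t hx hc
    · exact (h.cent_two hG hJ hi (Or.inl rfl) lab_reps.2.1 hiM).le ⟨mem_cent.2 hc, hK.le hx⟩
    · exact (h.cent_two hG hJ hzi (Or.inr rfl) hlzi hziM).le ⟨mem_cent.2 hc, hK.le hx⟩
  have hMK : h.mSub ≤ K := fun x hx => (hK.inter x (h.mSub_le hx)).2 hx
  -- `M` is self-normalizing in `K`
  have hnorm : ∀ g ∈ K, (∀ x ∈ h.mSub, g * x * g⁻¹ ∈ h.mSub) → g ∈ h.mSub := by
    intro g hg hn
    obtain ⟨a, ha, haM, hae⟩ := hn t h.t_mem_mSub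
    have hc : IsConj t (φ a) := isConj_iff.2 ⟨g, hae.symm⟩
    have hla := ((h.class_two hG hJ ha).1).1 hc
    simp only [List.mem_cons, List.not_mem_nil, or_false] at hla
    rcases ((M_class a ha haM).2 hla).1 with rfl | hb
    · exact hC (Or.inl rfl) g hg (by
        rw [h.map_z]
        rw [h.map_z] at hae
        exact mul_inv_eq_iff_eq_mul.1 hae.symm)
    · exfalso
      have hlb : lab a = 2 := by
        rcases hb with rfl | rfl
        · exact lab_reps.2.1
        · exact hlzi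
      -- the whole Sylow subgroup would centralise `φ a`
      have hsub : (rSub t φ).map (MulAut.conj g).toMonoidHom ≤
          centralizer ({φ a} : Set G) ⊓ nSub φ := by
        rintro _ ⟨x, hx, rfl⟩
        refine ⟨mem_cent.2 ?_, (nSub φ).mul_mem ((nSub φ).mul_mem (hK.le hg) (rSub_le_nSub hx))
          ((nSub φ).inv_mem (hK.le hg))⟩
        change g * x * g⁻¹ * φ a = φ a * (g * x * g⁻¹)
        rw [hae]
        exact (commute_conj (g := g)).2 (mem_cent.1 hx.1)
      have h16 := Subgroup.card_le_of_le hsub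
      rw [card_conj, h.card_R, h.cent_two hG hJ ha hb hlb haM, h.card_mSub] at h16
      norm_num at h16
  -- normal complement
  set MK : Subgroup ↥K := h.mSub.subgroupOf K with hMKdef
  have hMKp : IsPGroup 2 MK := IsPGroup.of_card (n := 3) (by
    rw [hMKdef, Nat.card_congr (Subgroup.subgroupOfEquivOfLe hMK).toEquiv, h.card_mSub]; norm_num)
  obtain ⟨S, hS⟩ := hMKp.exists_le_sylow
  have hSeq : (S : Subgroup ↥K) = MK := by
    refine (eq_of_normalizer_inf_le S.2 hS fun g _ hn => ?_).symm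
    refine Subgroup.mem_subgroupOf.2 (hnorm g g.2 fun x hx => ?_)
    exact Subgroup.mem_subgroupOf.1
      (hn ⟨x, hMK hx⟩ (Subgroup.mem_subgroupOf.2 hx))
  have hScomm : IsMulCommutative S := ⟨⟨fun x y => by
    refine Subtype.ext (Subtype.ext ?_)
    have hx : ((x : ↥K) : G) ∈ h.mSub := Subgroup.mem_subgroupOf.1 (hSeq.le x.2)
    have hy : ((y : ↥K) : G) ∈ h.mSub := Subgroup.mem_subgroupOf.1 (hSeq.le y.2)
    exact h.mSub_comm hx hy⟩⟩
  have hcomp : Cfsg.HasNormalPComplement 2 ↥K := by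
    refine Transfer.hasNormalPComplement_of_control S fun x hx y hy ⟨g, hg⟩ => ?_
    obtain ⟨n, hn, hne⟩ := Transfer.conj_normalizer_of_abelian S hScomm hx (g := g) (hg ▸ hy)
    refine ⟨n, ?_, hne.trans hg⟩
    rw [hSeq, hMKdef, Subgroup.mem_subgroupOf]
    refine hnorm n n.2 fun z hz => ?_
    have h1 : (⟨z, hMK hz⟩ : ↥K) ∈ (S : Subgroup ↥K) := by
      rw [hSeq]; exact Subgroup.mem_subgroupOf.2 hz
    have h2 := (Subgroup.mem_normalizer_iff.1 hn _).1 h1
    exact Subgroup.mem_subgroupOf.1 (hSeq.le h2)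
  set O : Subgroup ↥K := Cfsg.pResidual 2 ↥K with hO
  have hbot : (S : Subgroup ↥K) ⊓ O = ⊥ :=
    (Transfer.hasNormalPComplement_iff_inf_eq_bot S).1 hcomp
  haveI : O.Normal := Transfer.pResidual_normal
  -- the involutions invert the complement
  have hinv : ∀ {b}, (hb : b = zI ∨ b = iI ∨ b = mu zI iI) → (hbK : φ b ∈ K) → b < 192 →
      inM b = true → ∀ o ∈ O, (⟨φ b, hbK⟩ : ↥K) * o * ⟨φ b, hbK⟩⁻¹ = o⁻¹ := by
    intro b hb hbK hb' hbM o ho
    set m : ↥K := ⟨φ b, hbK⟩ with hm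
    have hmm : m * m = 1 := Subtype.ext (h.mSub_sq ⟨b, hb', hbM, rfl⟩)
    let f : O →* O := MonoidHom.mk'
      (fun k => ⟨m * k * m⁻¹, Subgroup.Normal.conj_mem inferInstance _ k.2 m⟩)
      fun x y => Subtype.ext (by simp [mul_assoc])
    have hf : MonoidHom.FixedPointFree f := fun k hk => by
      refine Subtype.ext ?_
      have hk' : m * (k : ↥K) * m⁻¹ = k := congrArg Subtype.val hk
      have h1 : (k : ↥K) ∈ MK := Subgroup.mem_subgroupOf.2 (hC hb _ (k : ↥K).2
        (congrArg Subtype.val (mul_inv_eq_iff_eq_mul.1 hk')).symm)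
      rw [← hSeq] at h1
      have h2 : (k : ↥K) ∈ (S : Subgroup ↥K) ⊓ O := ⟨h1, k.2⟩
      rw [hbot, Subgroup.mem_bot] at h2
      exact h2
    have h2 : Function.Involutive f := fun k => Subtype.ext (by
      show m * (m * k * m⁻¹) * m⁻¹ = k
      rw [show m * (m * (k : ↥K) * m⁻¹) * m⁻¹ = (m * m) * k * (m * m)⁻¹ by group, hmm]
      simp)
    exact congrArg Subtype.val
      (congrFun (MonoidHom.FixedPointFree.coe_eq_inv_of_involutive hf h2) ⟨o, ho⟩)
  have hOsq : ∀ o ∈ O, o * o = 1 := by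
    intro o ho
    have hzK : φ zI ∈ K := hMK ⟨zI, hz, M_spec.2.1, rfl⟩
    have hiK : φ iI ∈ K := hMK ⟨iI, hi, hiM, rfl⟩
    have hziK : φ (mu zI iI) ∈ K := hMK ⟨_, hzi, hziM, rfl⟩
    have e3 := hinv (Or.inr (Or.inr rfl)) hziK hzi hziM o ho
    have e1 := hinv (Or.inl rfl) hzK hz M_spec.2.1
    have e2 := hinv (Or.inr (Or.inl rfl)) hiK hi hiM o ho
    rw [show (⟨φ (mu zI iI), hziK⟩ : ↥K) = ⟨φ zI, hzK⟩ * ⟨φ iI, hiK⟩ from
      Subtype.ext (h.map_mul _ hz _ hi), mul_inv_rev] at e3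
    have : (⟨φ zI, hzK⟩ : ↥K) * (⟨φ iI, hiK⟩ * o * ⟨φ iI, hiK⟩⁻¹) * ⟨φ zI, hzK⟩⁻¹ = o⁻¹ := by
      rw [← e3]; group
    rw [e2, e1 _ (inv_mem ho), inv_inv] at this
    exact mul_eq_one_iff_eq_inv.2 this
  have hObot : O = ⊥ := by
    rw [← le_bot_iff]
    intro o ho
    have h4 : o ^ 2 ^ 1 = 1 := by rw [pow_one, pow_two]; exact hOsq o ho
    obtain ⟨n, hn⟩ := IsPGroup.exists_le_sylow (p := 2) (P := zpowers o) (by
      obtain ⟨m, -, hm⟩ := (Nat.dvd_prime_pow Nat.prime_two).1 (orderOf_dvd_of_pow_eq_one h4)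
      exact IsPGroup.of_card (n := m) (by rw [Nat.card_zpowers, hm]))
    obtain ⟨g, hg⟩ := MulAction.exists_smul_eq ↥K n S
    have h5 : g * o * g⁻¹ ∈ S := by
      rw [← hg]; exact mem_conj_sylow.2 ⟨o, hn (mem_zpowers o), rfl⟩
    have h6 : g * o * g⁻¹ ∈ (S : Subgroup ↥K) ⊓ O :=
      ⟨h5, Subgroup.Normal.conj_mem inferInstance _ ho g⟩
    rw [hbot, Subgroup.mem_bot, conj_eq_one_iff] at h6
    exact h6
  have hKM : K = h.mSub := by
    refine le_antisymm (fun x hx => ?_) hMK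
    have h1 : (⟨x, hx⟩ : ↥K) ∈ (S : Subgroup ↥K) ⊔ O := by
      rw [hO, Transfer.sylow_sup_pResidual_eq_top]; trivial
    rw [hObot, sup_bot_eq, hSeq] at h1
    exact Subgroup.mem_subgroupOf.1 h1
  refine (Subgroup.eq_of_le_of_card_ge rSub_le_nSub ?_).symm
  rw [h.card_R, hK.card, hKM, h.card_mSub]

theorem card_G_two (h : CentModel t φ) (hG : ¬ IsMulCommutative G) (hJ : IsConj (φ kI) (φ jI)) :
    Nat.card G = 1344 := by
  have hu := h.map_kI_two
  have e1 := h.card_pairs_t h.orderOf_t hu (fun a ha => (h.class_two hG hJ ha).1)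
    fun a ha => (h.class_two hG hJ ha).2
  have hN := h.card_nSub_two hG hJ
  have e2 : Nat.card {q : G × G //
      IsConj t q.1 ∧ IsConj (φ kI) q.2 ∧ φ kI ∈ zpowers (q.1 * q.2)} = 3 := by
    rw [← pairs_case_two.2]
    refine h.card_pairs (fun a ha => h.cl_lt ha) (List.nodup_range.filter _) idx_lt'.2.2.1
      (P := fun g => IsConj t g) (Q := fun g => IsConj (φ kI) g)
      (fun a ha => (h.class_two hG hJ (h.cl_lt ha)).1)
      (fun a ha => (h.class_two hG hJ (h.cl_lt ha)).2) fun x y hx hy hm => ?_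
    obtain ⟨c1, c2⟩ := commute_of_mem_zpowers ((orderOf_of_isConj hx).trans h.orderOf_t)
      ((orderOf_of_isConj hy).trans hu) hu hm
    exact ⟨h.mem_R_iff.1 (hN ▸ mem_cent.2 c1), h.mem_R_iff.1 (hN ▸ mem_cent.2 c2)⟩
  have := S0213.result t (φ kI) h.orderOf_t hu h.not_isConj_kI (h.cover hG)
  rw [e1, pairs_case_two.1, h.card_cent, e2,
    show centralizer ({φ kI} : Set G) = rSub t φ from hN, h.card_R] at this
  omega

end CentModel

end Cfsg.Agent.M12Cent14
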