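import Cfsg.Agent.S0111
import Cfsg.Agent.S0215
import Cfsg.Agent.M12Cent14.Bridge

/-!
# The fusion of involutions
-/

set_option autoImplicit false

namespace Cfsg.Agent.M12Cent14

open Subgroup
open scoped Pointwise

variable {G : Type*} [Group G] {t : G} {φ : ℕ → G}

theorem mem_cent {g x : G} : x ∈ centralizer ({g} : Set G) ↔ x * g = g * x :=
  mem_centralizer_singleton_iff

theorem orderOf_conj (g x : G) : orderOf (g * x * g⁻¹) = orderOf x :=
  orderOf_injective (MulAut.conj g).toMonoidHom (MulAut.conj g).injective x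

theorem orderOf_of_isConj {x y : G} (h : IsConj x y) : orderOf y = orderOf x := by
  obtain ⟨g, rfl⟩ := isConj_iff.1 h
  exact orderOf_conj g x

theorem commute_conj {g x y : G} :
    (g * x * g⁻¹) * (g * y * g⁻¹) = (g * y * g⁻¹) * (g * x * g⁻¹) ↔ x * y = y * x := by
  rw [conj_mul, conj_mul]
  exact ⟨fun h => mul_left_cancel (mul_right_cancel h), fun h => by rw [h]⟩

theorem card_conj (H : Subgroup G) (g : G) :
    Nat.card ↥(H.map (MulAut.conj g).toMonoidHom) = Nat.card H :=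
  Subgroup.card_map_of_injective (MulAut.conj g).injective

theorem mem_sylow_iff {p : ℕ} {P : Sylow p G} {x : G} : x ∈ P ↔ x ∈ (P : Subgroup G) := Iff.rfl

/-- A 2-subgroup containing `H` in which `H` is self-normalizing is `H`. -/
theorem eq_of_normalizer_inf_le [Finite G] {P H : Subgroup G} (hP : IsPGroup 2 P) (hHP : H ≤ P)
    (h : ∀ g ∈ P, (∀ x ∈ H, g * x * g⁻¹ ∈ H) → g ∈ H) : H = P := by
  haveI : Fact (Nat.Prime 2) := ⟨Nat.prime_two⟩
  haveI := hP.isNilpotent
  by_contra hne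
  have hlt : H.subgroupOf P < ⊤ := lt_top_iff_ne_top.2 fun e => hne
    (le_antisymm hHP (Subgroup.subgroupOf_eq_top.1 e))
  obtain ⟨x, hx, hxn⟩ := SetLike.exists_of_lt (Group.normalizerCondition_of_isNilpotent _ hlt)
  refine hxn (Subgroup.mem_subgroupOf.2 (h x x.2 fun y hy => ?_))
  have := (Subgroup.mem_normalizer_iff.1 hx ⟨y, hHP hy⟩).1 (Subgroup.mem_subgroupOf.2 hy)
  exact Subgroup.mem_subgroupOf.1 this

theorem exists_unique_image {L : List ℕ} (hL : ∀ a ∈ L, a < 192) (h : CentModel t φ)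
    (hn : L.Nodup) {H : Set G} (hH : ∀ x, x ∈ H ↔ ∃ a ∈ L, φ a = x) :
    Nat.card H = L.length := by
  classical
  have e : H = ((L.toFinset.image φ : Finset G) : Set G) := by
    ext x
    simp only [hH, Finset.coe_image, Set.mem_image, List.coe_toFinset, Set.mem_setOf_eq]
  rw [e, Nat.card_eq_fintype_card]
  simp only [Finset.coe_sort_coe, Fintype.card_coe]
  rw [Finset.card_image_of_injOn, List.toFinset_card_of_nodup hn]
  intro a ha b hb e
  simp only [List.coe_toFinset, Set.mem_setOf_eq] at ha hb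
  exact h.inj a (hL a ha) b (hL b hb) e

namespace CentModel

theorem mem_inf_iff (h : CentModel t φ) {a : ℕ} (ha : a < 192) {x : G} :
    x ∈ centralizer ({t} : Set G) ⊓ centralizer ({φ a} : Set G) ↔ ∃ b ∈ cl a, φ b = x := by
  constructor
  · rintro ⟨hx, hx'⟩
    obtain ⟨b, hb, rfl⟩ := h.surj x (mem_cent.1 hx)
    exact ⟨b, (h.mem_cl_iff ha).2 ⟨hb, mem_cent.1 hx'⟩, rfl⟩
  · rintro ⟨b, hb, rfl⟩
    obtain ⟨hb', e⟩ := (h.mem_cl_iff ha).1 hb
    exact ⟨mem_cent.2 (h.comm b hb'), mem_cent.2 e⟩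

theorem card_inf (h : CentModel t φ) {a : ℕ} (ha : a < 192) :
    Nat.card ↥(centralizer ({t} : Set G) ⊓ centralizer ({φ a} : Set G)) = (cl a).length :=
  exists_unique_image (fun _ hb => List.mem_range.1 (List.mem_filter.1 hb).1) h
    (List.nodup_range.filter _) fun _ => h.mem_inf_iff ha

theorem card_cent (h : CentModel t φ) : Nat.card ↥(centralizer ({t} : Set G)) = 192 := by
  have := exists_unique_image (H := (centralizer ({t} : Set G) : Set G)) (L := List.range 192)
    (fun a ha => List.mem_range.1 ha) h List.nodup_range fun x => ?_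
  · simpa using this
  · refine ⟨fun hx => ?_, ?_⟩
    · obtain ⟨a, ha, e⟩ := h.surj x (mem_cent.1 hx)
      exact ⟨a, List.mem_range.2 ha, e⟩
    · rintro ⟨a, ha, rfl⟩
      exact mem_cent.2 (h.comm a (List.mem_range.1 ha))

theorem orderOf_t (h : CentModel t φ) : orderOf t = 2 := by
  rw [← h.map_z, h.orderOf_eq_two_iff idx_lt'.1, lab_reps.1]; norm_num

theorem lab_ne_zero (h : CentModel t φ) {a : ℕ} (ha : a < 192) (h2 : orderOf (φ a) = 2) :
    lab a ≠ 0 := (h.orderOf_eq_two_iff ha).1 h2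

/-- The class of a commuting involution is read off from the order of the common centralizer. -/
theorem lab_eq_of_card (h : CentModel t φ) {a : ℕ} (ha : a < 192) (h2 : orderOf (φ a) = 2) {n : ℕ}
    (hn : n = 2 ∨ n = 3 ∨ n = 4)
    (hc : Nat.card ↥(centralizer ({t} : Set G) ⊓ centralizer ({φ a} : Set G)) =
      [0, 192, 32, 16, 8].getD n 0) : lab a = n := by
  rw [h.card_inf ha, cl_length a ha (h.lab_ne_zero ha h2)] at hc
  have h4 := (lab_spec a ha).2.1
  have h0 := h.lab_ne_zero ha h2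
  obtain ⟨l, hl⟩ : ∃ l, lab a = l := ⟨_, rfl⟩
  rw [hl] at hc h4 h0 ⊢
  rcases hn with rfl | rfl | rfl <;> interval_cases l <;> simp_all

theorem comm_or (h : CentModel t φ) {a : ℕ} (ha : a < 192) (hl : lab a = 3) {x y : G}
    (hx : x ∈ centralizer ({t} : Set G) ⊓ centralizer ({φ a} : Set G))
    (hy : y ∈ centralizer ({t} : Set G) ⊓ centralizer ({φ a} : Set G)) :
    x * y = y * x ∨ x * y = t * (y * x) := by
  obtain ⟨i, hi, rfl⟩ := (h.mem_inf_iff ha).1 hx
  obtain ⟨j, hj, rfl⟩ := (h.mem_inf_iff ha).1 hy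
  obtain ⟨hi', -⟩ := (h.mem_cl_iff ha).1 hi
  obtain ⟨hj', -⟩ := (h.mem_cl_iff ha).1 hj
  rw [← h.map_mul i hi' j hj', ← h.map_mul j hj' i hi', ← h.map_z,
    ← h.map_mul _ idx_lt'.1 _ (table_lt j hj' i hi')]
  rcases (comm_three a ha hl).1 i hi j hj with e | e
  · exact Or.inl (congrArg φ e)
  · exact Or.inr (congrArg φ e)

theorem exists_comm (h : CentModel t φ) {a : ℕ} (ha : a < 192) (hl : lab a = 3) :
    ∃ x ∈ centralizer ({t} : Set G) ⊓ centralizer ({φ a} : Set G),
    ∃ y ∈ centralizer ({t} : Set G) ⊓ centralizer ({φ a} : Set G), x * y = t * (y * x) := by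
  obtain ⟨i, hi, j, hj, hne⟩ := (comm_three a ha hl).2
  refine ⟨φ i, (h.mem_inf_iff ha).2 ⟨i, hi, rfl⟩, φ j, (h.mem_inf_iff ha).2 ⟨j, hj, rfl⟩, ?_⟩
  obtain ⟨hi', -⟩ := (h.mem_cl_iff ha).1 hi
  obtain ⟨hj', -⟩ := (h.mem_cl_iff ha).1 hj
  have e := ((comm_three a ha hl).1 i hi j hj).resolve_left hne
  rw [← h.map_mul i hi' j hj', e, h.map_mul _ idx_lt'.1 _ (table_lt j hj' i hi'),
    h.map_mul j hj' i hi', h.map_z]

/-- An element conjugating `t` to the involution `a` carries `t` into the table. -/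
theorem exists_back (h : CentModel t φ) {g : G} {a : ℕ} (ha : a < 192)
    (hg : g * t * g⁻¹ = φ a) : ∃ b < 192, φ b = g⁻¹ * t * g ∧ orderOf (φ b) = 2 ∧
      Nat.card ↥(centralizer ({t} : Set G) ⊓ centralizer ({φ b} : Set G)) =
        Nat.card ↥(centralizer ({t} : Set G) ⊓ centralizer ({φ a} : Set G)) := by
  obtain ⟨b, hb, e⟩ := h.surj (g⁻¹ * t * g) (by
    have h1 : φ a * t = t * φ a := h.comm a ha
    rw [← hg] at h1
    calc g⁻¹ * t * g * t = g⁻¹ * (t * (g * t * g⁻¹)) * g := by group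
      _ = g⁻¹ * (g * t * g⁻¹ * t) * g := by rw [h1]
      _ = t * (g⁻¹ * t * g) := by group)
  refine ⟨b, hb, e, ?_, ?_⟩
  · rw [e, show g⁻¹ * t * g = g⁻¹ * t * g⁻¹⁻¹ by group, orderOf_conj, h.orderOf_t]
  · have he : t = g * φ b * g⁻¹ := by rw [e]; group
    have key : (centralizer ({t} : Set G) ⊓ centralizer ({φ b} : Set G)).map
        (MulAut.conj g).toMonoidHom = centralizer ({t} : Set G) ⊓ centralizer ({φ a} : Set G) := by
      ext x
      rw [Subgroup.mem_map_equiv, MulAut.conj_symm_apply, Subgroup.mem_inf, Subgroup.mem_inf,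
        mem_cent, mem_cent, mem_cent, mem_cent]
      constructor
      · rintro ⟨h1, h2⟩
        have h1' := (commute_conj (g := g)).2 h1
        have h2' := (commute_conj (g := g)).2 h2
        rw [show g * (g⁻¹ * x * g) * g⁻¹ = x by group] at h1' h2'
        rw [hg] at h1'
        rw [← he] at h2'
        exact ⟨h2', h1'⟩
      · rintro ⟨h1, h2⟩
        refine ⟨(commute_conj (g := g)).1 ?_, (commute_conj (g := g)).1 ?_⟩
        · rw [show g * (g⁻¹ * x * g) * g⁻¹ = x by group, hg]; exact h2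
        · rw [show g * (g⁻¹ * x * g) * g⁻¹ = x by group, ← he]; exact h1
    rw [← key, card_conj]

/-- `t` is not conjugate to an involution of the third class. -/
theorem not_isConj_three (h : CentModel t φ) {a : ℕ} (ha : a < 192) (hl : lab a = 3) :
    ¬ IsConj t (φ a) := by
  intro hc
  obtain ⟨g, hg⟩ := isConj_iff.1 hc
  obtain ⟨b, hb, hbe, hb2, hcard⟩ := h.exists_back ha hg
  have hlb : lab b = 3 := h.lab_eq_of_card hb hb2 (by omega) (by
    rw [hcard, h.card_inf ha, cl_length a ha (by omega), hl])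
  obtain ⟨x, hx, y, hy, hxy⟩ := h.exists_comm ha hl
  have hmap : ∀ z, z ∈ centralizer ({t} : Set G) ⊓ centralizer ({φ a} : Set G) →
      g⁻¹ * z * g ∈ centralizer ({t} : Set G) ⊓ centralizer ({φ b} : Set G) := by
    rintro z ⟨hz1, hz2⟩
    refine ⟨mem_cent.2 ((commute_conj (g := g)).1 ?_), mem_cent.2 ((commute_conj (g := g)).1 ?_)⟩
    · rw [show g * (g⁻¹ * z * g) * g⁻¹ = z by group, hg]; exact mem_cent.1 hz2
    · rw [show g * (g⁻¹ * z * g) * g⁻¹ = z by group,
        show g * φ b * g⁻¹ = t by rw [hbe]; group]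
      exact mem_cent.1 hz1
  have e : g⁻¹ * x * g * (g⁻¹ * y * g) = φ b * (g⁻¹ * y * g * (g⁻¹ * x * g)) := by
    rw [hbe]
    calc g⁻¹ * x * g * (g⁻¹ * y * g) = g⁻¹ * (x * y) * g := by group
      _ = g⁻¹ * (t * (y * x)) * g := by rw [hxy]
      _ = _ := by group
  rcases h.comm_or hb hlb (hmap x hx) (hmap y hy) with e' | e'
  · rw [e'] at e
    have : φ b = 1 := right_eq_mul.mp e
    rw [h.map_eq_one hb] at this
    rw [this, lab_reps.2.2.2.2] at hlb
    norm_num at hlb
  · rw [e', mul_right_cancel_iff, ← h.map_z] at e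
    rw [← h.inj _ idx_lt'.1 b hb e, lab_reps.1] at hlb
    norm_num at hlb

/-- The Sylow 2-subgroup given by the table. -/
theorem exists_sylow [Finite G] (h : CentModel t φ) :
    ∃ P : Sylow 2 G, (P : Subgroup G) = sylSub h := by
  haveI : Fact (Nat.Prime 2) := ⟨Nat.prime_two⟩
  obtain ⟨P, hP⟩ := (IsPGroup.of_card (n := 6) (show Nat.card (sylSub h) = 2 ^ 6 by
    rw [card_sylSub]; norm_num)).exists_le_sylow
  refine ⟨P, (eq_of_normalizer_inf_le P.2 hP fun g hg hn => ?_).symm⟩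
  have hts : t ∈ sylSub h := ⟨zI, syl_spec.2.1, h.map_z⟩
  have hct : ∀ y ∈ sylSub h, y * t = t * y := by
    rintro _ ⟨a, ha, rfl⟩; exact h.comm a (syl_mem ha)
  have hle : sylSub h ≤ (sylSub h).map (MulAut.conj g).toMonoidHom := by
    refine (Subgroup.eq_of_le_of_card_ge (H := (sylSub h).map (MulAut.conj g).toMonoidHom)
      ?_ (by rw [card_conj])).ge
    rintro _ ⟨x, hx, rfl⟩
    exact hn x hx
  have hfix : g * t * g⁻¹ = t := by
    refine eq_of_central_syl h (hn t hts) (fun y hy => ?_) ?_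
    · obtain ⟨x, hx, rfl⟩ := hle hy
      exact (commute_conj (g := g)).2 (hct x hx)
    · intro e
      rw [conj_eq_one_iff] at e
      have := h.orderOf_t
      rw [e, orderOf_one] at this
      norm_num at this
  have hgt : g ∈ centralizer ({t} : Set G) := mem_cent.2 (mul_inv_eq_iff_eq_mul.1 hfix)
  set T := (P : Subgroup G) ⊓ centralizer ({t} : Set G) with hT
  have hST : sylSub h ≤ T := fun x hx => ⟨hP hx, mem_cent.2 (hct x hx)⟩
  obtain ⟨n, hn'⟩ := IsPGroup.iff_card.1 (P.2.to_le (inf_le_left : T ≤ (P : Subgroup G)))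
  have hdvd : Nat.card T ∣ 192 := h.card_cent ▸ Subgroup.card_dvd_of_le inf_le_right
  have hn6 : n ≤ 6 := by
    by_contra hcon
    rw [hn'] at hdvd
    have : 2 ^ 7 ∣ 192 := (pow_dvd_pow 2 (by omega)).trans hdvd
    norm_num at this
  have : sylSub h = T := Subgroup.eq_of_le_of_card_ge hST (by
    rw [hn', card_sylSub]; exact (Nat.pow_le_pow_right (by norm_num) hn6).trans (by norm_num))
  rw [this]
  exact ⟨hg, hgt⟩

section Simple

variable [Finite G] [IsSimpleGroup G]

theorem exists_fused (h : CentModel t φ) (hG : ¬ IsMulCommutative G) :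
    ∃ a < 192, a ≠ zI ∧ IsConj t (φ a) := by
  haveI : Fact (Nat.Prime 2) := ⟨Nat.prime_two⟩
  obtain ⟨P, hP⟩ := h.exists_sylow
  by_contra hcon
  obtain ⟨N, hN, hodd, hcomm⟩ := S0215.result P t h.orderOf_t
    (by rw [mem_sylow_iff, hP]; exact ⟨zI, syl_spec.2.1, h.map_z⟩) fun g hg => by
      rw [mem_sylow_iff, hP] at hg
      obtain ⟨a, ha, e⟩ := hg
      by_contra hne
      refine hcon ⟨a, syl_mem ha, fun e' => hne ?_, isConj_iff.2 ⟨g, e.symm⟩⟩
      rw [← e, e', h.map_z]
  rcases hN.eq_bot_or_eq_top with rfl | rfl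
  · have hc : t ∈ center G := Subgroup.mem_center_iff.2 fun g => by
      have := hcomm g
      rw [Subgroup.mem_bot] at this
      rw [mul_inv_eq_one, mul_inv_eq_iff_eq_mul] at this
      exact this.symm
    rcases (inferInstance : (center G).Normal).eq_bot_or_eq_top with e | e
    · rw [e, Subgroup.mem_bot] at hc
      have := h.orderOf_t
      rw [hc, orderOf_one] at this
      norm_num at this
    · exact hG ⟨⟨fun x y => (Subgroup.mem_center_iff.1 (e ▸ Subgroup.mem_top y) x)⟩⟩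
  · have h2 := h.orderOf_t ▸ Subgroup.orderOf_dvd_natCard (⊤ : Subgroup G) (Subgroup.mem_top t)
    exact (Nat.not_even_iff_odd.2 hodd) (even_iff_two_dvd.2 h2)

/-- The second class fuses with `t`. -/
theorem isConj_two (h : CentModel t φ) (hG : ¬ IsMulCommutative G) {a : ℕ} (ha : a < 192)
    (hl : lab a = 2) : IsConj t (φ a) := by
  obtain ⟨hz, hi, -, hj⟩ := idx_lt'
  suffices hI : IsConj t (φ iI) from hI.trans (h.isConj_rep ha (r := (2, iI)) (by simp) hl)
  by_contra hI
  have h2 : ∀ b < 192, lab b = 2 → ¬ IsConj t (φ b) := fun b hb hlb hc =>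
    hI (hc.trans (h.isConj_rep hb (r := (2, iI)) (by simp) hlb).symm)
  obtain ⟨x, hx, hxz, hxc⟩ := h.exists_fused hG
  have hx2 : orderOf (φ x) = 2 := (orderOf_of_isConj hxc).trans h.orderOf_t
  have hlx : lab x = 4 := by
    have h4 := (lab_spec x hx).2.1
    have h0 := h.lab_ne_zero hx hx2
    rcases (by omega : lab x = 1 ∨ lab x = 2 ∨ lab x = 3 ∨ lab x = 4) with e | e | e | e
    · exact absurd ((lab_spec x hx).2.2.1 e) hxz
    · exact absurd hxc (h2 x hx e)
    · exact absurd hxc (h.not_isConj_three hx e)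
    · exact e
  have hJ : IsConj t (φ jI) := hxc.trans (h.isConj_rep hx (r := (4, jI)) (by simp) hlx).symm
  obtain ⟨g, hg⟩ := isConj_iff.1 hJ
  obtain ⟨b, hb, hbe, hb2, hcard⟩ := h.exists_back hj hg
  have hlb : lab b = 4 := h.lab_eq_of_card hb hb2 (by omega) (by
    rw [hcard, h.card_inf hj, cl_length jI hj (by rw [lab_reps.2.2.2.1]; norm_num),
      lab_reps.2.2.2.1])
  obtain ⟨p, hp, hlp⟩ := four_pair.1
  obtain ⟨hp', hpj⟩ := (h.mem_cl_iff hj).1 hp
  have hq' := table_lt _ hz _ hp'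
  obtain ⟨hlq, hpq, -⟩ := center_two p hp' hlp
  have hqj : φ (mu zI p) * φ jI = φ jI * φ (mu zI p) := by
    rw [h.map_mul _ hz _ hp', h.map_z, mul_assoc, hpj, ← mul_assoc, ← h.comm jI hj, mul_assoc]
  -- transport a pair
  have key : ∀ c < 192, lab c = 2 → φ c * φ jI = φ jI * φ c →
      ∃ d ∈ cl b, φ d = g⁻¹ * φ c * g ∧ (lab d = 2 ∨ lab d = 3) := by
    intro c hc hlc hcj
    obtain ⟨d, hd, hde⟩ := h.surj (g⁻¹ * φ c * g) ((commute_conj (g := g)).1 (by
      rw [show g * (g⁻¹ * φ c * g) * g⁻¹ = φ c by group, hg]; exact hcj))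
    have hd2 : orderOf (φ d) = 2 := by
      rw [hde, show g⁻¹ * φ c * g = g⁻¹ * φ c * g⁻¹⁻¹ by group, orderOf_conj,
        h.orderOf_eq_two_iff hc, hlc]
      norm_num
    have hnc : ¬ IsConj t (φ d) := fun hcon => h2 c hc hlc (hcon.trans
      (isConj_iff.2 ⟨g, by rw [hde]; group⟩))
    refine ⟨d, (h.mem_cl_iff hb).2 ⟨hd, (commute_conj (g := g)).1 ?_⟩, hde, ?_⟩
    · rw [show g * φ b * g⁻¹ = t by rw [hbe]; group,
        show g * φ d * g⁻¹ = φ c by rw [hde]; group]
      exact h.comm c hc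
    · have h4 := (lab_spec d hd).2.1
      have h0 := h.lab_ne_zero hd hd2
      rcases (by omega : lab d = 1 ∨ lab d = 2 ∨ lab d = 3 ∨ lab d = 4) with e | e | e | e
      · exact absurd (by rw [(lab_spec d hd).2.2.1 e, h.map_z]) hnc
      · exact Or.inl e
      · exact Or.inr e
      · exact absurd (hJ.trans (h.isConj_rep hd (r := (4, jI)) (by simp) e)) hnc
  obtain ⟨d, hd, hde, hld⟩ := key p hp' hlp hpj
  obtain ⟨d', hd', hde', hld'⟩ := key _ hq' hlq hqj
  have hdd : d ≠ d' := by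
    rintro rfl
    rw [hde] at hde'
    exact hpq (h.inj _ hq' _ hp' (mul_left_cancel (mul_right_cancel hde')).symm)
  have e := congrArg φ (four_pair.2 b hb hlb d hd d' hd' hld hld' hdd)
  obtain ⟨hd1, -⟩ := (h.mem_cl_iff hb).1 hd
  obtain ⟨hd1', -⟩ := (h.mem_cl_iff hb).1 hd'
  rw [h.map_mul d hd1 d' hd1', hde, hde', h.map_mul _ hz _ hp', h.map_z] at e
  have hpp : φ p * φ p = 1 := by
    have := ((lab_spec p hp').1.1 (by omega)).2
    rw [← h.map_mul p hp' p hp', this, h.map_zero]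
  have e' : g⁻¹ * t * g = t := by
    calc g⁻¹ * t * g = g⁻¹ * (φ p * (φ p * t)) * g := by rw [← mul_assoc (φ p), hpp, one_mul]
      _ = g⁻¹ * (φ p * (t * φ p)) * g := by rw [h.comm p hp']
      _ = g⁻¹ * φ p * g * (g⁻¹ * (t * φ p) * g) := by group
      _ = t := e
  rw [← hbe, ← h.map_z] at e'
  rw [h.inj b hb _ hz e', lab_reps.1] at hlb
  norm_num at hlb

/-- The fourth class fuses with the first or the third. -/
theorem four_cases (h : CentModel t φ) (hG : ¬ IsMulCommutative G) :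
    IsConj t (φ jI) ∨ IsConj (φ kI) (φ jI) := by
  haveI : Fact (Nat.Prime 2) := ⟨Nat.prime_two⟩
  obtain ⟨h0, hlen, hsub, x, hx, hxS, hxH, hlx⟩ := half_spec
  obtain ⟨P, hP⟩ := h.exists_sylow
  have hH' : ∀ {a}, inH a = true → a < 192 := fun {a} ha => by
    by_contra hc
    rw [inH, Nat.testBit_lt_two_pow] at ha
    · exact Bool.false_ne_true ha
    · exact lt_of_lt_of_le (show halfMask < 2 ^ 192 by decide +kernel)
        (Nat.pow_le_pow_right (by norm_num) (not_lt.1 hc))
  let Q : Subgroup G :=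
    { carrier := φ '' {a | inH a = true}
      one_mem' := ⟨0, h0, h.map_zero⟩
      mul_mem' := by
        rintro _ _ ⟨a, ha, rfl⟩ ⟨b, hb, rfl⟩
        exact ⟨mu a b, (hsub a (hH' ha) ha).2.2 b (hH' hb) hb, h.map_mul a (hH' ha) b (hH' hb)⟩
      inv_mem' := by
        rintro _ ⟨a, ha, rfl⟩
        have hpw : ∀ m, inH (pw a m) = true := by
          intro m
          induction m with
          | zero => exact h0
          | succ m ih => exact (hsub _ (pw_lt (hH' ha) m) ih).2.2 a (hH' ha) ha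
        refine ⟨pw a 23, hpw 23, eq_inv_of_mul_eq_one_left ?_⟩
        rw [h.map_pw (hH' ha), ← pow_succ, ← h.map_pw (hH' ha), pw_order a (hH' ha), h.map_zero] }
  have hQP : Q ≤ (P : Subgroup G) := by
    rintro _ ⟨a, ha, rfl⟩
    rw [hP]; exact ⟨a, (hsub a (hH' ha) ha).1, rfl⟩
  have hQ32 : Nat.card Q = 32 := by
    rw [← hlen]
    refine exists_unique_image (fun a ha => List.mem_range.1 (List.mem_filter.1 ha).1) h
      (List.nodup_range.filter _) (H := (Q : Set G)) fun y => ?_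
    simp only [List.mem_filter, List.mem_range]
    exact ⟨fun ⟨a, ha, e⟩ => ⟨a, ⟨hH' ha, ha⟩, e⟩, fun ⟨a, ha, e⟩ => ⟨a, ha.2, e⟩⟩
  have hidx : Q.relIndex (P : Subgroup G) = 2 := by
    have h1 := Subgroup.relIndex_mul_relIndex ⊥ Q (P : Subgroup G) bot_le hQP
    rw [Subgroup.relIndex_bot_left, Subgroup.relIndex_bot_left, hQ32,
      show Nat.card ↥(P : Subgroup G) = 64 by rw [hP, card_sylSub]] at h1
    omega
  have hx2 : orderOf (φ x) = 2 := (h.orderOf_eq_two_iff hx).2 (by omega)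
  have hxQ : φ x ∉ Q := by
    rintro ⟨a, ha, e⟩
    rw [h.inj a (hH' ha) x hx e] at ha
    rw [Set.mem_setOf_eq, hxH] at ha
    exact Bool.false_ne_true ha
  rcases S0111.result (P : Sylow 2 G) Q hQP hidx (φ x) hx2
      (by rw [hP]; exact ⟨x, hxS, rfl⟩) hxQ with ⟨M, hM, hMi, -⟩ | ⟨g, hg⟩
  · exfalso
    rcases hM.eq_bot_or_eq_top with rfl | rfl
    · rw [Subgroup.index_bot] at hMi
      exact hG (isMulCommutative_of_card_two hMi)
    · rw [Subgroup.index_top] at hMi; norm_num at hMi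
  · obtain ⟨a, ha, e⟩ := hg
    have hxa : IsConj (φ jI) (φ a) :=
      (h.isConj_rep hx (r := (4, jI)) (by simp) hlx).trans (isConj_iff.2 ⟨g, e.symm⟩)
    have ha' := hH' ha
    have h4 := (lab_spec a ha').2.1
    have h0' := h.lab_ne_zero ha' (by rw [e, orderOf_conj]; exact hx2)
    rcases (by omega : lab a = 1 ∨ lab a = 2 ∨ lab a = 3 ∨ lab a = 4) with e' | e' | e' | e'
    · left
      rw [(lab_spec a ha').2.2.1 e', h.map_z] at hxa
      exact hxa.symm
    · exact Or.inl ((h.isConj_two hG ha' e').trans hxa.symm)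
    · exact Or.inr ((h.isConj_rep ha' (r := (3, kI)) (by simp) e').trans hxa.symm)
    · exact absurd e' (hsub a ha' ha).2.1
where
  isMulCommutative_of_card_two (h2 : Nat.card G = 2) : IsMulCommutative G := by
    haveI : Fact (Nat.Prime 2) := ⟨Nat.prime_two⟩
    haveI := isCyclic_of_prime_card h2
    exact ⟨⟨fun a b => IsCyclic.commGroup.mul_comm a b⟩⟩

theorem not_isConj_kI (h : CentModel t φ) : ¬ IsConj t (φ kI) :=
  h.not_isConj_three idx_lt'.2.2.1 lab_reps.2.2.1

/-- Every involution is conjugate to `t` or to the representative of the third class. -/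
theorem cover (h : CentModel t φ) (hG : ¬ IsMulCommutative G) (x : G) (hx : orderOf x = 2) :
    IsConj t x ∨ IsConj (φ kI) x := by
  haveI : Fact (Nat.Prime 2) := ⟨Nat.prime_two⟩
  obtain ⟨P, hP⟩ := h.exists_sylow
  obtain ⟨Q, hQ⟩ := (IsPGroup.of_card (n := 1) (show Nat.card (zpowers x) = 2 ^ 1 by
    rw [Nat.card_zpowers, hx, pow_one])).exists_le_sylow
  obtain ⟨g, hg⟩ := MulAction.exists_smul_eq G Q P
  have hxQ : x ∈ (Q : Sylow 2 G) := hQ (mem_zpowers x)
  have : g * x * g⁻¹ ∈ P := by rw [← hg]; exact mem_conj_sylow.2 ⟨x, hxQ, rfl⟩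
  rw [mem_sylow_iff, hP] at this
  obtain ⟨a, ha, e⟩ := this
  have ha' := syl_mem ha
  have hback : IsConj (φ a) x := isConj_iff.2 ⟨g⁻¹, by rw [e]; group⟩
  have h4 := (lab_spec a ha').2.1
  have h0 := h.lab_ne_zero ha' (by rw [e, orderOf_conj]; exact hx)
  rcases (by omega : lab a = 1 ∨ lab a = 2 ∨ lab a = 3 ∨ lab a = 4) with e' | e' | e' | e'
  · rw [(lab_spec a ha').2.2.1 e', h.map_z] at hback
    exact Or.inl hback
  · exact Or.inl ((h.isConj_two hG ha' e').trans hback)
  · exact Or.inr ((h.isConj_rep ha' (r := (3, kI)) (by simp) e').trans hback)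
  · rcases h.four_cases hG with e4 | e4
    · exact Or.inl ((e4.trans (h.isConj_rep ha' (r := (4, jI)) (by simp) e')).trans hback)
    · exact Or.inr ((e4.trans (h.isConj_rep ha' (r := (4, jI)) (by simp) e')).trans hback)

end Simple

end CentModel

end Cfsg.Agent.M12Cent14
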