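import Cfsg.Agent.Lib.Transfer.Focal
import Cfsg.Agent.J2Order38.FourSylow
import Cfsg.Agent.M12Cent14.Fusion

/-!
# The centralizer of an involution of the other class
-/

set_option autoImplicit false
set_option maxRecDepth 20000

namespace Cfsg.Agent.M12Cent14

open Subgroup
open scoped Pointwise commutatorElement

variable {G : Type*} [Group G] {t : G} {φ : ℕ → G}

theorem R_index : ∀ a ∈ cl kI, inM a = false → ∀ b ∈ cl kI, inM b = false → inM (mu a b) = true := by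
  decide +kernel

theorem exists_outer : ∃ a ∈ cl kI, inM a = false := by decide +kernel

theorem inM_iff : ∀ a < 192, inM a = true → a ∈ cl kI := by decide +kernel

/-- The common centralizer of `t` and the involution `φ kI`. -/
def rSub (t : G) (φ : ℕ → G) : Subgroup G :=
  centralizer ({t} : Set G) ⊓ centralizer ({φ kI} : Set G)

/-- The centralizer of `φ kI`. -/
def nSub (φ : ℕ → G) : Subgroup G := centralizer ({φ kI} : Set G)

theorem rSub_le_nSub : rSub t φ ≤ nSub φ := inf_le_right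

/-- Two involutions whose product has the power `w` centralise the involution `w`. -/
theorem commute_of_mem_zpowers {x y w : G} (hx : orderOf x = 2) (hy : orderOf y = 2)
    (hw : orderOf w = 2) (hmem : w ∈ zpowers (x * y)) :
    x * w = w * x ∧ y * w = w * y := by
  have hxx : x * x = 1 := by rw [← pow_two, ← hx, pow_orderOf_eq_one]
  have hyy : y * y = 1 := by rw [← pow_two, ← hy, pow_orderOf_eq_one]
  have hwi : w⁻¹ = w := inv_eq_of_mul_eq_one_left (by rw [← pow_two, ← hw, pow_orderOf_eq_one])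
  obtain ⟨k, rfl⟩ := mem_zpowers_iff.1 hmem
  have hxi : x⁻¹ = x := inv_eq_of_mul_eq_one_left hxx
  have hyi : y⁻¹ = y := inv_eq_of_mul_eq_one_left hyy
  have e1 : x * (x * y) ^ k * x⁻¹ = (x * y) ^ k := by
    rw [← conj_zpow, show x * (x * y) * x⁻¹ = (x * y)⁻¹ by
      rw [mul_inv_rev, hxi, hyi, ← mul_assoc, hxx, one_mul], inv_zpow, hwi]
  have e2 : y * (x * y) ^ k * y⁻¹ = (x * y) ^ k := by
    rw [← conj_zpow, show y * (x * y) * y⁻¹ = (x * y)⁻¹ by
      rw [mul_inv_rev, hxi, hyi, mul_assoc, mul_assoc, hyy, mul_one], inv_zpow, hwi]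
  exact ⟨mul_inv_eq_iff_eq_mul.1 e1, mul_inv_eq_iff_eq_mul.1 e2⟩

namespace CentModel

theorem map_kI_two (h : CentModel t φ) : orderOf (φ kI) = 2 :=
  (h.orderOf_eq_two_iff idx_lt'.2.2.1).2 (by rw [lab_reps.2.2.1]; norm_num)

theorem mem_R_iff (h : CentModel t φ) {x : G} : x ∈ rSub t φ ↔ ∃ a ∈ cl kI, φ a = x :=
  h.mem_inf_iff idx_lt'.2.2.1

theorem cl_lt (_h : CentModel t φ) {a b : ℕ} (hb : b ∈ cl a) : b < 192 :=
  List.mem_range.1 (List.mem_filter.1 hb).1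

theorem card_R (h : CentModel t φ) : Nat.card (rSub t φ) = 16 := by
  rw [rSub, h.card_inf idx_lt'.2.2.1, cl_length kI idx_lt'.2.2.1
    (by rw [lab_reps.2.2.1]; norm_num), lab_reps.2.2.1]
  rfl

/-- The elementary subgroup of order eight. -/
def mSub (h : CentModel t φ) : Subgroup G where
  carrier := {x | ∃ a < 192, inM a = true ∧ φ a = x}
  one_mem' := ⟨0, by norm_num, M_spec.1, h.map_zero⟩
  mul_mem' := by
    rintro _ _ ⟨a, ha, ha', rfl⟩ ⟨b, hb, hb', rfl⟩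
    exact ⟨mu a b, table_lt a ha b hb, ((M_spec.2.2.2.2.2 a ha ha').2 b hb hb').2,
      h.map_mul a ha b hb⟩
  inv_mem' := by
    rintro _ ⟨a, ha, ha', rfl⟩
    refine ⟨a, ha, ha', eq_inv_of_mul_eq_one_left ?_⟩
    rw [← h.map_mul a ha a ha, (M_spec.2.2.2.2.2 a ha ha').1, h.map_zero]

theorem mem_mSub (h : CentModel t φ) {x : G} :
    x ∈ h.mSub ↔ ∃ a < 192, inM a = true ∧ φ a = x := Iff.rfl

theorem mSub_le (h : CentModel t φ) : h.mSub ≤ rSub t φ := by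
  rintro _ ⟨a, ha, ha', rfl⟩
  exact h.mem_R_iff.2 ⟨a, inM_iff a ha ha', rfl⟩

theorem inM_of_map_mem (h : CentModel t φ) {a : ℕ} (ha : a < 192) (hm : φ a ∈ h.mSub) :
    inM a = true := by
  obtain ⟨b, hb, hb', e⟩ := hm
  rwa [← h.inj b hb a ha e]

theorem card_mSub (h : CentModel t φ) : Nat.card h.mSub = 8 := by
  rw [← M_spec.2.2.2.2.1]
  refine exists_unique_image (fun a ha => List.mem_range.1 (List.mem_filter.1 ha).1) h
    (List.nodup_range.filter _) (H := (h.mSub : Set G)) fun y => ?_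
  simp only [List.mem_filter, List.mem_range]
  exact ⟨fun ⟨a, ha, ha', e⟩ => ⟨a, ⟨ha, ha'⟩, e⟩, fun ⟨a, ha, e⟩ => ⟨a, ha.1, ha.2, e⟩⟩

theorem mSub_comm (h : CentModel t φ) {x y : G} (hx : x ∈ h.mSub) (hy : y ∈ h.mSub) :
    x * y = y * x := by
  obtain ⟨a, ha, ha', rfl⟩ := hx
  obtain ⟨b, hb, hb', rfl⟩ := hy
  exact (h.com_iff ha hb).2 ((M_spec.2.2.2.2.2 a ha ha').2 b hb hb').1

theorem mSub_sq (h : CentModel t φ) {x : G} (hx : x ∈ h.mSub) : x * x = 1 := by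
  obtain ⟨a, ha, ha', rfl⟩ := hx
  rw [← h.map_mul a ha a ha, (M_spec.2.2.2.2.2 a ha ha').1, h.map_zero]

theorem t_mem_mSub (h : CentModel t φ) : t ∈ h.mSub := ⟨zI, idx_lt'.1, M_spec.2.1, h.map_z⟩

theorem u_mem_mSub (h : CentModel t φ) : φ kI ∈ h.mSub :=
  ⟨kI, idx_lt'.2.2.1, M_spec.2.2.2.1, rfl⟩

theorem t_mem_nSub (h : CentModel t φ) : t ∈ nSub φ :=
  rSub_le_nSub (h.mSub_le h.t_mem_mSub)

theorem u_comm (_h : CentModel t φ) {x : G} (hx : x ∈ nSub φ) : x * φ kI = φ kI * x :=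
  mem_cent.1 hx

section

variable [Finite G]

theorem exists_sylow_nSub (h : CentModel t φ) :
    ∃ Q : Sylow 2 ↥(nSub φ), (Q : Subgroup ↥(nSub φ)) = (rSub t φ).subgroupOf (nSub φ) := by
  haveI : Fact (Nat.Prime 2) := ⟨Nat.prime_two⟩
  have hR : IsPGroup 2 (rSub t φ) := IsPGroup.of_card (n := 4) (by rw [h.card_R]; norm_num)
  obtain ⟨Q, hQ⟩ := (hR.comap_subtype (K := nSub φ)).exists_le_sylow
  refine ⟨Q, le_antisymm ?_ hQ⟩
  have hmax : rSub t φ = (Q : Subgroup ↥(nSub φ)).map (nSub φ).subtype := by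
    refine eq_of_normalizer_inf_le (Q.2.map _) ?_ fun g hg hn => ?_
    · intro x hx
      exact ⟨⟨x, rSub_le_nSub hx⟩, hQ (Subgroup.mem_subgroupOf.2 hx), rfl⟩
    · obtain ⟨⟨g, hgN⟩, -, rfl⟩ := hg
      refine ⟨mem_cent.2 (mul_inv_eq_iff_eq_mul.1 ?_), hgN⟩
      obtain ⟨x, hx, y, hy, hxy⟩ := h.exists_comm idx_lt'.2.2.1 lab_reps.2.2.1
      have e : g * x * g⁻¹ * (g * y * g⁻¹) = g * t * g⁻¹ * (g * y * g⁻¹ * (g * x * g⁻¹)) := by
        rw [conj_mul, hxy]; group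
      rcases h.comm_or idx_lt'.2.2.1 lab_reps.2.2.1 (hn x hx) (hn y hy) with e' | e'
      · exfalso
        rw [Subgroup.coe_subtype] at e'
        rw [e'] at e
        have h1 := right_eq_mul.mp e
        rw [conj_eq_one_iff] at h1
        have := h.orderOf_t
        rw [h1, orderOf_one] at this
        norm_num at this
      · rw [Subgroup.coe_subtype] at e'
        rw [e', mul_right_cancel_iff] at e
        exact e.symm
  intro x hx
  rw [Subgroup.mem_subgroupOf, hmax]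
  exact ⟨x, hx, rfl⟩

/-- Every 2-subgroup of the centralizer is conjugate into `R`. -/
theorem exists_conj_le (h : CentModel t φ) {Q : Subgroup G} (hQ : IsPGroup 2 Q)
    (hQN : Q ≤ nSub φ) : ∃ n ∈ nSub φ, ∀ x ∈ Q, n * x * n⁻¹ ∈ rSub t φ := by
  haveI : Fact (Nat.Prime 2) := ⟨Nat.prime_two⟩
  obtain ⟨R', hR'⟩ := h.exists_sylow_nSub
  obtain ⟨Q', hQ'⟩ := (hQ.comap_subtype (K := nSub φ)).exists_le_sylow
  obtain ⟨n, hn⟩ := MulAction.exists_smul_eq ↥(nSub φ) Q' R'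
  refine ⟨n, n.2, fun x hx => ?_⟩
  have h1 : n * ⟨x, hQN hx⟩ * n⁻¹ ∈ R' := by
    rw [← hn]
    exact mem_conj_sylow.2 ⟨⟨x, hQN hx⟩, hQ' (Subgroup.mem_subgroupOf.2 hx), rfl⟩
  rw [mem_sylow_iff, hR', Subgroup.mem_subgroupOf] at h1
  exact h1

theorem exists_conj_mem (h : CentModel t φ) {x : G} (hx : x ∈ nSub φ) {k : ℕ}
    (hk : x ^ 2 ^ k = 1) : ∃ n ∈ nSub φ, n * x * n⁻¹ ∈ rSub t φ := by
  haveI : Fact (Nat.Prime 2) := ⟨Nat.prime_two⟩
  obtain ⟨m, -, hm⟩ := (Nat.dvd_prime_pow Nat.prime_two).1 (orderOf_dvd_of_pow_eq_one hk)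
  obtain ⟨n, hn, hn'⟩ := h.exists_conj_le (Q := zpowers x)
    (IsPGroup.of_card (n := m) (by rw [Nat.card_zpowers, hm])) (zpowers_le.2 hx)
  exact ⟨n, hn, hn' x (mem_zpowers x)⟩

theorem no_sqrt (h : CentModel t φ) {x : G} (hx : x ∈ nSub φ) : x * x ≠ φ kI := by
  intro e
  obtain ⟨n, hn, hr⟩ := h.exists_conj_mem hx (k := 2) (by
    rw [show (2 : ℕ) ^ 2 = 2 * 2 by norm_num, pow_mul, pow_two, pow_two, e, ← pow_two, ← h.map_kI_two,
      pow_orderOf_eq_one])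
  obtain ⟨a, ha, ea⟩ := h.mem_R_iff.1 hr
  have hk := idx_lt'.2.2.1
  have e2 : φ (mu a a) = φ kI := by
    rw [h.map_mul a (h.cl_lt ha) a (h.cl_lt ha), ea, conj_mul, e, h.u_comm hn,
      mul_inv_cancel_right]
  have e3 := h.inj _ (table_lt a (h.cl_lt ha) a (h.cl_lt ha)) _ hk e2
  rcases (R_spec.2.2 a ha).1 with e4 | e4 <;> rw [e4] at e3
  · have := lab_reps.2.2.1
    rw [← e3, lab_reps.2.2.2.2] at this
    norm_num at this
  · have := lab_reps.2.2.1
    rw [← e3, lab_reps.1] at this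
    norm_num at this

end

section Simple

variable [Finite G] [IsSimpleGroup G]

theorem lab_le_two (h : CentModel t φ) (hG : ¬ IsMulCommutative G) {a : ℕ} (ha : a < 192)
    (hl : lab a = 1 ∨ lab a = 2) : IsConj t (φ a) := by
  rcases hl with hl | hl
  · rw [(lab_spec a ha).2.2.1 hl, h.map_z]
  · exact h.isConj_two hG ha hl

theorem not_isConj_outer (h : CentModel t φ) {x : G} (hx : x ∈ rSub t φ) (hM : x ∉ h.mSub)
    (h2 : orderOf x = 2) : ¬ IsConj t x ∧ ¬ IsConj t (x * φ kI) := by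
  obtain ⟨a, ha, rfl⟩ := h.mem_R_iff.1 hx
  have ha' := h.cl_lt ha
  have hk := idx_lt'.2.2.1
  obtain ⟨e1, e2⟩ := (R_spec.2.2 a ha).2.2 (Bool.eq_false_iff.2 fun e => hM ⟨a, ha', e, rfl⟩)
    (h.lab_ne_zero ha' h2)
  exact ⟨h.not_isConj_three ha' e1,
    h.map_mul a ha' kI hk ▸ h.not_isConj_three (table_lt a ha' kI hk) e2⟩

theorem mSub_class (h : CentModel t φ) (hG : ¬ IsMulCommutative G) {x : G} (hx : x ∈ h.mSub)
    (h1 : x ≠ 1) (hu : x ≠ φ kI) : IsConj t x ∨ IsConj t (x * φ kI) := by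
  obtain ⟨a, ha, ha', rfl⟩ := hx
  have hk := idx_lt'.2.2.1
  rcases (M_class a ha ha').1 (fun e => h1 (e ▸ h.map_zero)) (fun e => hu (e ▸ rfl)) with
    e | e | e
  · exact Or.inl (h.lab_le_two hG ha e)
  · exact Or.inr (h.map_mul a ha kI hk ▸ h.lab_le_two hG (table_lt a ha kI hk) (Or.inl e))
  · exact Or.inr (h.map_mul a ha kI hk ▸ h.lab_le_two hG (table_lt a ha kI hk) (Or.inr e))

theorem not_both (h : CentModel t φ) {x : G} (hx : x ∈ h.mSub) (hc : IsConj t x) :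
    ¬ IsConj t (x * φ kI) := by
  obtain ⟨a, ha, ha', rfl⟩ := hx
  have hk := idx_lt'.2.2.1
  rw [← h.map_mul a ha kI hk]
  have ha0 := h.lab_ne_zero ha ((orderOf_of_isConj hc).trans h.orderOf_t)
  have h4 := (lab_spec a ha).2.1
  have hR := (R_spec.2.2 a (inM_iff a ha ha')).2.1
  have h12 : lab a = 1 ∨ lab a = 2 := by
    rcases (by omega : lab a = 1 ∨ lab a = 2 ∨ lab a = 3) with e | e | e
    · exact Or.inl e
    · exact Or.inr e
    · exact absurd hc (h.not_isConj_three ha e)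
  exact h.not_isConj_three (table_lt a ha kI hk) ((M_class a ha ha').2 h12).2

/-- `M` is invariant under fusion in the centralizer. -/
theorem fusion_mSub (h : CentModel t φ) (hG : ¬ IsMulCommutative G) {x n : G} (hx : x ∈ h.mSub)
    (hn : n ∈ nSub φ) (hy : n * x * n⁻¹ ∈ rSub t φ) : n * x * n⁻¹ ∈ h.mSub := by
  rcases eq_or_ne x 1 with rfl | h1
  · simp [one_mem]
  rcases eq_or_ne x (φ kI) with rfl | hu
  · rw [h.u_comm hn, mul_inv_cancel_right]; exact h.u_mem_mSub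
  by_contra hM
  have h2 : orderOf (n * x * n⁻¹) = 2 := by
    rw [orderOf_conj]
    exact orderOf_eq_prime (by rw [pow_two]; exact h.mSub_sq hx) h1
  obtain ⟨e1, e2⟩ := h.not_isConj_outer hy hM h2
  rcases h.mSub_class hG hx h1 hu with e | e
  · exact e1 (e.trans (isConj_iff.2 ⟨n, rfl⟩))
  · refine e2 (e.trans (isConj_iff.2 ⟨n, ?_⟩))
    rw [← conj_mul, h.u_comm hn, mul_inv_cancel_right]

/-- The normal subgroup of index two of the centralizer. -/
structure IsHalf (h : CentModel t φ) (K : Subgroup G) : Prop where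
  le : K ≤ nSub φ
  conj_mem : ∀ n ∈ nSub φ, ∀ x ∈ K, n * x * n⁻¹ ∈ K
  inter : ∀ x ∈ rSub t φ, (x ∈ K ↔ x ∈ h.mSub)
  mul_mem : ∀ x ∈ nSub φ, ∀ y ∈ nSub φ, x ∉ K → y ∉ K → x * y ∈ K
  card : Nat.card (nSub φ) = 2 * Nat.card K

theorem exists_isHalf (h : CentModel t φ) (hG : ¬ IsMulCommutative G) :
    ∃ K : Subgroup G, IsHalf h K := by
  haveI : Fact (Nat.Prime 2) := ⟨Nat.prime_two⟩
  obtain ⟨R', hR'⟩ : ∃ Q : Sylow 2 ↥(nSub φ),
      (Q : Subgroup ↥(nSub φ)) = (rSub t φ).subgroupOf (nSub φ) := h.exists_sylow_nSub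
  set O : Subgroup ↥(nSub φ) := Cfsg.pResidual 2 ↥(nSub φ) with hO
  haveI : O.Normal := Transfer.pResidual_normal
  set M' : Subgroup ↥(nSub φ) := h.mSub.subgroupOf (nSub φ) with hM'
  have hfoc : (R' : Subgroup ↥(nSub φ)) ⊓ O ≤ M' := by
    refine (Transfer.sylow_inf_pResidual_le_focalSubgroup R').trans ?_
    rw [Subgroup.focalSubgroup_def, Subgroup.closure_le]
    rintro c ⟨hc, x, hx, n, rfl⟩
    have hy : n * x * n⁻¹ ∈ (R' : Subgroup ↥(nSub φ)) := by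
      have h1 := (R' : Subgroup ↥(nSub φ)).inv_mem
        ((R' : Subgroup ↥(nSub φ)).mul_mem ((R' : Subgroup ↥(nSub φ)).inv_mem hx) hc)
      simpa [commutatorElement_def, mul_assoc] using h1
    rw [SetLike.mem_coe, hM', Subgroup.mem_subgroupOf,
      show ⁅x, n⁆ = x * (n * x * n⁻¹)⁻¹ by group]
    push_cast
    rw [hR', Subgroup.mem_subgroupOf] at hx hy
    push_cast at hy
    by_cases hxm : (x : G) ∈ h.mSub
    · exact mul_mem hxm (inv_mem (h.fusion_mSub hG hxm n.2 hy))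
    · obtain ⟨a, ha, ea⟩ := h.mem_R_iff.1 hx
      have hym : (n : G) * x * (n : G)⁻¹ ∉ h.mSub := fun hym => hxm (by
        have := h.fusion_mSub hG hym (inv_mem n.2) (by
          rw [show (n : G)⁻¹ * ((n : G) * x * (n : G)⁻¹) * (n : G)⁻¹⁻¹ = x by group]; exact hx)
        rwa [show (n : G)⁻¹ * ((n : G) * x * (n : G)⁻¹) * (n : G)⁻¹⁻¹ = x by group] at this)
      obtain ⟨b, hb, eb⟩ := h.mem_R_iff.1 (inv_mem hy)
      have hbM : inM b = false := Bool.eq_false_iff.2 fun e => hym (by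
        have : ((n : G) * x * (n : G)⁻¹)⁻¹ ∈ h.mSub := ⟨b, h.cl_lt hb, e, eb⟩
        simpa using inv_mem this)
      have haM : inM a = false := Bool.eq_false_iff.2 fun e => hxm ⟨a, h.cl_lt ha, e, ea⟩
      refine ⟨mu a b, table_lt a (h.cl_lt ha) b (h.cl_lt hb), R_index a ha haM b hb hbM, ?_⟩
      rw [h.map_mul a (h.cl_lt ha) b (h.cl_lt hb), ea, eb]
  set K' : Subgroup ↥(nSub φ) := O ⊔ M' with hK'
  have hM'R : M' ≤ (R' : Subgroup ↥(nSub φ)) := fun x hx => by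
    rw [hR', Subgroup.mem_subgroupOf]; exact h.mSub_le hx
  have hinter : ∀ x ∈ (R' : Subgroup ↥(nSub φ)), (x ∈ K' ↔ x ∈ M') := by
    refine fun x hx => ⟨fun hxK => ?_, fun hxM => le_sup_right (a := O) hxM⟩
    obtain ⟨o, ho, m, hm, rfl⟩ := Subgroup.mem_sup_of_normal_left.1 hxK
    refine mul_mem (hfoc ⟨?_, ho⟩) hm
    have := mul_mem hx ((R' : Subgroup ↥(nSub φ)).inv_mem (hM'R hm))
    rwa [mul_inv_cancel_right] at this
  obtain ⟨a, ha, haM⟩ := exists_outer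
  have haR : φ a ∈ rSub t φ := h.mem_R_iff.2 ⟨a, ha, rfl⟩
  have haK : ∀ r ∈ (R' : Subgroup ↥(nSub φ)),
      ((r * (⟨φ a, rSub_le_nSub haR⟩ : ↥(nSub φ))) ∈ M' ↔ r ∉ M') := by
    intro r hr
    rw [hM', Subgroup.mem_subgroupOf, Subgroup.mem_subgroupOf]
    push_cast
    rw [hR', Subgroup.mem_subgroupOf] at hr
    obtain ⟨b, hb, eb⟩ := h.mem_R_iff.1 hr
    constructor
    · intro h1 h2
      have h3 := mul_mem (inv_mem h2) h1
      rw [inv_mul_cancel_left] at h3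
      have := h.inM_of_map_mem (h.cl_lt ha) h3
      rw [haM] at this
      exact Bool.false_ne_true this
    · intro h2
      refine ⟨mu b a, table_lt b (h.cl_lt hb) a (h.cl_lt ha), R_index b hb
        (Bool.eq_false_iff.2 fun e => h2 ⟨b, h.cl_lt hb, e, eb⟩) a ha haM, ?_⟩
      rw [h.map_mul b (h.cl_lt hb) a (h.cl_lt ha), eb]
  have hidx : K'.index = 2 := by
    rw [Subgroup.index_eq_two_iff]
    refine ⟨⟨φ a, rSub_le_nSub haR⟩, fun b => ?_⟩
    have hb : b ∈ O ⊔ (R' : Subgroup ↥(nSub φ)) := by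
      rw [sup_comm, hO, Transfer.sylow_sup_pResidual_eq_top]; trivial
    obtain ⟨o, ho, r, hr, rfl⟩ := Subgroup.mem_sup_of_normal_left.1 hb
    have hoK : o ∈ K' := le_sup_left (b := M') ho
    have har : r * (⟨φ a, rSub_le_nSub haR⟩ : ↥(nSub φ)) ∈ (R' : Subgroup ↥(nSub φ)) :=
      mul_mem hr (by rw [hR', Subgroup.mem_subgroupOf]; exact haR)
    rw [mul_assoc, K'.mul_mem_cancel_left hoK, K'.mul_mem_cancel_left hoK, hinter _ har,
      hinter _ hr, haK r hr]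
    by_cases hrM : r ∈ M' <;> simp [Xor', hrM]
  have hnorm : K'.Normal := Subgroup.normal_of_index_eq_two hidx
  refine ⟨K'.map (nSub φ).subtype, ⟨Subgroup.map_subtype_le _, ?_, ?_, ?_, ?_⟩⟩
  · rintro n hn _ ⟨x, hx, rfl⟩
    exact ⟨⟨n, hn⟩ * x * ⟨n, hn⟩⁻¹, hnorm.conj_mem x hx _, rfl⟩
  · intro x hx
    have hxN := rSub_le_nSub hx
    have hx' : (⟨x, hxN⟩ : ↥(nSub φ)) ∈ (R' : Subgroup ↥(nSub φ)) := by
      rw [hR', Subgroup.mem_subgroupOf]; exact hx
    constructor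
    · rintro ⟨y, hy, e⟩
      obtain rfl : y = ⟨x, hxN⟩ := Subtype.ext e
      exact (hinter _ hx').1 hy
    · exact fun hm => ⟨⟨x, hxN⟩, (hinter _ hx').2 hm, rfl⟩
  · intro x hx y hy hxK hyK
    refine ⟨⟨x, hx⟩ * ⟨y, hy⟩, ?_, rfl⟩
    rw [SetLike.mem_coe, Subgroup.mul_mem_iff_of_index_two hidx]
    exact iff_of_false (fun e => hxK ⟨_, e, rfl⟩) fun e => hyK ⟨_, e, rfl⟩
  · rw [Subgroup.card_map_of_injective (nSub φ).subtype_injective, ← K'.card_mul_index, hidx, mul_comm]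

theorem IsHalf.mem_of_isConj {h : CentModel t φ} {K : Subgroup G} (hK : IsHalf h K) {x : G}
    (hx : x ∈ nSub φ) (hc : IsConj t x) : x ∈ K := by
  have h2 : orderOf x = 2 := (orderOf_of_isConj hc).trans h.orderOf_t
  obtain ⟨n, hn, hr⟩ := h.exists_conj_mem hx (k := 1) (by rw [pow_one, ← h2, pow_orderOf_eq_one])
  have hM : n * x * n⁻¹ ∈ h.mSub := by
    by_contra hM
    exact (h.not_isConj_outer hr hM (by rw [orderOf_conj]; exact h2)).1
      (hc.trans (isConj_iff.2 ⟨n, rfl⟩))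
  have := hK.conj_mem n⁻¹ (inv_mem hn) _ ((hK.inter _ hr).2 hM)
  rwa [show n⁻¹ * (n * x * n⁻¹) * n⁻¹⁻¹ = x by group] at this

theorem IsHalf.exists_conj_mem {h : CentModel t φ} {K : Subgroup G} (hK : IsHalf h K) {x : G}
    (hx : x ∈ K) {k : ℕ} (hk : x ^ 2 ^ k = 1) : ∃ n ∈ nSub φ, n * x * n⁻¹ ∈ h.mSub := by
  obtain ⟨n, hn, hr⟩ := h.exists_conj_mem (hK.le hx) hk
  exact ⟨n, hn, (hK.inter _ hr).1 (hK.conj_mem n hn x hx)⟩

theorem IsHalf.cent_t {h : CentModel t φ} {K : Subgroup G} (hK : IsHalf h K) {x : G}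
    (hx : x ∈ K) (hc : x * t = t * x) : x ∈ h.mSub :=
  (hK.inter x ⟨mem_cent.2 hc, hK.le hx⟩).1 hx

theorem IsHalf.not_mem_powers {h : CentModel t φ} {K : Subgroup G} (hK : IsHalf h K) {d : G}
    (hd : d ∈ nSub φ) (hdK : d ∉ K) : φ kI ∉ zpowers d := by
  rw [← mem_powers_iff_mem_zpowers, Submonoid.mem_powers_iff]
  rintro ⟨m, hm⟩
  obtain ⟨j, rfl | rfl⟩ := Nat.even_or_odd' m
  · refine h.no_sqrt (pow_mem hd j) ?_
    rw [← pow_add, ← hm, two_mul]
  · have hu : φ kI ∈ K := (hK.inter _ (h.mSub_le h.u_mem_mSub)).2 h.u_mem_mSub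
    have hsq : d ^ (2 * j) ∈ K := by
      rw [pow_mul, pow_two]
      exact pow_mem (hK.mul_mem d hd d hd hdK hdK) j
    rw [← hm, pow_succ, K.mul_mem_cancel_left hsq] at hu
    exact hdK hu

end Simple

end CentModel

end Cfsg.Agent.M12Cent14
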