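import Cfsg.Agent.S0213
import Cfsg.Agent.M12Cent14.CentU

/-!
# The two cases and the counts
-/

set_option autoImplicit false

namespace Cfsg.Agent.M12Cent14

open Subgroup

variable {G : Type*} [Group G] {t : G} {φ : ℕ → G}

namespace CentModel

/-- Pairs with a given power are counted in the table. -/
theorem card_pairs (h : CentModel t φ) [Finite G] {L zs us : List ℕ} (hL : ∀ a ∈ L, a < 192)
    (hn : L.Nodup) {p : ℕ} (hp : p < 192) {P Q : G → Prop}
    (hP : ∀ a ∈ L, P (φ a) ↔ lab a ∈ zs) (hQ : ∀ a ∈ L, Q (φ a) ↔ lab a ∈ us)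
    (hin : ∀ x y, P x → Q y → φ p ∈ zpowers (x * y) →
      (∃ a ∈ L, φ a = x) ∧ ∃ a ∈ L, φ a = y) :
    Nat.card {q : G × G // P q.1 ∧ Q q.2 ∧ φ p ∈ zpowers (q.1 * q.2)} =
      (pairs L zs us p).length := by
  classical
  set F := (pairs L zs us p).toFinset with hF
  have hnd : (pairs L zs us p).Nodup := ((hn.filter _).product (hn.filter _)).filter _
  have hmem : ∀ q, q ∈ F ↔ q.1 ∈ L ∧ lab q.1 ∈ zs ∧ q.2 ∈ L ∧ lab q.2 ∈ us ∧
      hasPow p (mu q.1 q.2) = true := by
    rintro ⟨a, b⟩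
    simp only [hF, pairs, List.mem_toFinset, List.mem_filter, List.mem_product,
      List.contains_iff_mem]
    tauto
  have hpow : ∀ a ∈ L, ∀ b ∈ L, φ p ∈ zpowers (φ a * φ b) ↔ hasPow p (mu a b) = true := by
    intro a ha b hb
    rw [← h.map_mul a (hL a ha) b (hL b hb), h.hasPow_iff (table_lt a (hL a ha) b (hL b hb)) hp]
  have e : {q : G × G | P q.1 ∧ Q q.2 ∧ φ p ∈ zpowers (q.1 * q.2)} =
      ((F.image fun q : ℕ × ℕ => (φ q.1, φ q.2) : Finset (G × G)) : Set (G × G)) := by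
    ext ⟨x, y⟩
    simp only [Set.mem_setOf_eq, Finset.coe_image, Set.mem_image, Finset.mem_coe, Prod.mk.injEq,
      Prod.exists]
    constructor
    · rintro ⟨hx, hy, hm⟩
      obtain ⟨⟨a, ha, rfl⟩, b, hb, rfl⟩ := hin x y hx hy hm
      exact ⟨a, b, (hmem _).2 ⟨ha, (hP a ha).1 hx, hb, (hQ b hb).1 hy, (hpow a ha b hb).1 hm⟩,
        rfl, rfl⟩
    · rintro ⟨a, b, hab, rfl, rfl⟩
      obtain ⟨ha, h1, hb, h2, h3⟩ := (hmem _).1 hab
      exact ⟨(hP a ha).2 h1, (hQ b hb).2 h2, (hpow a ha b hb).2 h3⟩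
  rw [← List.toFinset_card_of_nodup hnd, ← hF]
  change Nat.card ↥{q : G × G | P q.1 ∧ Q q.2 ∧ φ p ∈ zpowers (q.1 * q.2)} = _
  rw [e, Nat.card_eq_fintype_card]
  simp only [Finset.coe_sort_coe, Fintype.card_coe]
  refine Finset.card_image_of_injOn ?_
  rintro ⟨a, b⟩ hab ⟨c, d⟩ hcd he
  simp only [Finset.mem_coe] at hab hcd
  obtain ⟨ha, -, hb, -, -⟩ := (hmem _).1 hab
  obtain ⟨hc, -, hd, -, -⟩ := (hmem _).1 hcd
  simp only [Prod.mk.injEq] at he ⊢
  exact ⟨h.inj a (hL a ha) c (hL c hc) he.1, h.inj b (hL b hb) d (hL d hd) he.2⟩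

section Simple

variable [Finite G] [IsSimpleGroup G]

theorem class_one (h : CentModel t φ) (hG : ¬ IsMulCommutative G) (hJ : IsConj t (φ jI)) {a : ℕ}
    (ha : a < 192) :
    (IsConj t (φ a) ↔ lab a ∈ [1, 2, 4]) ∧ (IsConj (φ kI) (φ a) ↔ lab a ∈ [3]) := by
  have hk : lab a = 3 → IsConj (φ kI) (φ a) := fun e => h.isConj_rep ha (r := (3, kI)) (by simp) e
  have ht : lab a = 1 ∨ lab a = 2 ∨ lab a = 4 → IsConj t (φ a) := by
    rintro (e | e | e)
    · exact h.lab_le_two hG ha (Or.inl e)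
    · exact h.lab_le_two hG ha (Or.inr e)
    · exact hJ.trans (h.isConj_rep ha (r := (4, jI)) (by simp) e)
  have hex : ∀ {x : G}, IsConj x (φ a) → orderOf x = 2 → lab a = 1 ∨ lab a = 2 ∨ lab a = 3 ∨
      lab a = 4 := fun hc hx => by
    have := h.lab_ne_zero ha ((orderOf_of_isConj hc).trans hx)
    have := (lab_spec a ha).2.1
    omega
  constructor
  · refine ⟨fun hc => ?_, fun hm => ht (by simpa using hm)⟩
    rcases hex hc h.orderOf_t with e | e | e | e
    · simp [e]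
    · simp [e]
    · exact absurd hc (h.not_isConj_three ha e)
    · simp [e]
  · refine ⟨fun hc => ?_, fun hm => hk (by simpa using hm)⟩
    rcases hex hc h.map_kI_two with e | e | e | e
    · exact absurd ((ht (Or.inl e)).trans hc.symm) h.not_isConj_kI
    · exact absurd ((ht (Or.inr (Or.inl e))).trans hc.symm) h.not_isConj_kI
    · simp [e]
    · exact absurd ((ht (Or.inr (Or.inr e))).trans hc.symm) h.not_isConj_kI

theorem class_two (h : CentModel t φ) (hG : ¬ IsMulCommutative G) (hJ : IsConj (φ kI) (φ jI))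
    {a : ℕ} (ha : a < 192) :
    (IsConj t (φ a) ↔ lab a ∈ [1, 2]) ∧ (IsConj (φ kI) (φ a) ↔ lab a ∈ [3, 4]) := by
  have ht : lab a = 1 ∨ lab a = 2 → IsConj t (φ a) := fun e => h.lab_le_two hG ha e
  have hk : lab a = 3 ∨ lab a = 4 → IsConj (φ kI) (φ a) := by
    rintro (e | e)
    · exact h.isConj_rep ha (r := (3, kI)) (by simp) e
    · exact hJ.trans (h.isConj_rep ha (r := (4, jI)) (by simp) e)
  have hex : ∀ {x : G}, IsConj x (φ a) → orderOf x = 2 → lab a = 1 ∨ lab a = 2 ∨ lab a = 3 ∨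
      lab a = 4 := fun hc hx => by
    have := h.lab_ne_zero ha ((orderOf_of_isConj hc).trans hx)
    have := (lab_spec a ha).2.1
    omega
  constructor
  · refine ⟨fun hc => ?_, fun hm => ht (by simpa using hm)⟩
    rcases hex hc h.orderOf_t with e | e | e | e
    · simp [e]
    · simp [e]
    · exact absurd hc (h.not_isConj_three ha e)
    · exact absurd (hc.trans (hk (Or.inr e)).symm) h.not_isConj_kI
  · refine ⟨fun hc => ?_, fun hm => hk (by simpa using hm)⟩
    rcases hex hc h.map_kI_two with e | e | e | e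
    · exact absurd ((ht (Or.inl e)).trans hc.symm) h.not_isConj_kI
    · exact absurd ((ht (Or.inr e)).trans hc.symm) h.not_isConj_kI
    · simp [e]
    · simp [e]

/-- The number of pairs with the power `t`. -/
theorem card_pairs_t (h : CentModel t φ) {zs us : List ℕ} {x y : G} (hx : orderOf x = 2)
    (hy : orderOf y = 2) (hP : ∀ a < 192, IsConj x (φ a) ↔ lab a ∈ zs)
    (hQ : ∀ a < 192, IsConj y (φ a) ↔ lab a ∈ us) :
    Nat.card {q : G × G // IsConj x q.1 ∧ IsConj y q.2 ∧ t ∈ zpowers (q.1 * q.2)} =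
      (pairs (List.range 192) zs us zI).length := by
  rw [← h.card_pairs (fun a ha => List.mem_range.1 ha) List.nodup_range idx_lt'.1
    (P := fun g => IsConj x g) (Q := fun g => IsConj y g)
    (fun a ha => hP a (List.mem_range.1 ha)) (fun a ha => hQ a (List.mem_range.1 ha)) ?_, h.map_z]
  intro p q hp hq hm
  rw [h.map_z] at hm
  obtain ⟨c1, c2⟩ := commute_of_mem_zpowers ((orderOf_of_isConj hp).trans hx)
    ((orderOf_of_isConj hq).trans hy) h.orderOf_t hm
  obtain ⟨a, ha, rfl⟩ := h.surj p c1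
  obtain ⟨b, hb, rfl⟩ := h.surj q c2
  exact ⟨⟨a, List.mem_range.2 ha, rfl⟩, b, List.mem_range.2 hb, rfl⟩

end Simple

end CentModel

end Cfsg.Agent.M12Cent14
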