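import Cfsg.Agent.M12Cent14.Data
import Mathlib

/-!
# The multiplication table of the centralizer of a 2-central involution of M₁₂
-/

set_option autoImplicit false

namespace Cfsg.Agent.M12Cent14

/-- Lookup in a list of chunks of length 32. -/
def getC (L : List (List ℕ)) (m : ℕ) : ℕ := (L.getD (m / 32) []).getD (m % 32) 0

/-- The product of two elements. -/
def mu (a b : ℕ) : ℕ := getC rowData a >>> (8 * b) &&& 255

/-- The class of an involution. -/
def lab (a : ℕ) : ℕ := getC labData a

/-- The elements commute. -/
def com (a b : ℕ) : Bool := mu a b == mu b a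

/-- The centralizer of an element. -/
def cl (a : ℕ) : List ℕ := (List.range 192).filter (com a)

/-- The powers. -/
def pw (a : ℕ) : ℕ → ℕ
  | 0 => 0
  | m + 1 => mu (pw a m) a

/-- `p` is a power of `a`. -/
def hasPow (p a : ℕ) : Bool := (List.range 24).any fun m => pw a m == p

/-- The Sylow 2-subgroup. -/
def inS (a : ℕ) : Bool := sylMask.testBit a

/-- Its maximal subgroup. -/
def inH (a : ℕ) : Bool := halfMask.testBit a

/-- The centralizer of the representatives of the second and third classes. -/
def inM (a : ℕ) : Bool := com kI a && com iI a

/-- The pairs of elements of `L` of given classes whose product has the power `p`. -/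
def pairs (L zs us : List ℕ) (p : ℕ) : List (ℕ × ℕ) :=
  ((L.filter fun a => zs.contains (lab a)) ×ˢ (L.filter fun a => us.contains (lab a))).filter
    fun q => hasPow p (mu q.1 q.2)

end Cfsg.Agent.M12Cent14
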