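import Cfsg.Agent.M12Cent14.Defs

/-!
# Facts about the table, checked by computation
-/

set_option autoImplicit false
set_option maxRecDepth 20000
set_option synthInstance.maxSize 2000
set_option synthInstance.maxHeartbeats 200000

namespace Cfsg.Agent.M12Cent14

theorem table_lt : ∀ a < 192, ∀ b < 192, mu a b < 192 := by decide +kernel

theorem table_one : mu 0 0 = 0 ∧ ∀ a < 192, mu 0 a = a ∧ ∃ b < 192, mu a b = 0 ∧ mu b a = 0 := by
  decide +kernel

theorem idx_lt' : zI < 192 ∧ iI < 192 ∧ kI < 192 ∧ jI < 192 := by decide +kernel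

theorem lab_reps : lab zI = 1 ∧ lab iI = 2 ∧ lab kI = 3 ∧ lab jI = 4 ∧ lab 0 = 0 := by
  decide +kernel

theorem lab_spec : ∀ a < 192,
    (lab a ≠ 0 ↔ a ≠ 0 ∧ mu a a = 0) ∧ lab a ≤ 4 ∧ (lab a = 1 → a = zI) ∧ com zI a = true := by
  decide +kernel

theorem center_spec : ∀ a < 192,
    (List.range 192).all (com a) = true → a = 0 ∨ a = zI := by decide +kernel

theorem wit_spec : ∀ a < 192, ∀ r ∈ [(1, zI), (2, iI), (3, kI), (4, jI)], lab a = r.1 →
    getC witData a < 192 ∧ mu (getC witData a) r.2 = mu a (getC witData a) := by decide +kernel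

theorem cl_length : ∀ a < 192, lab a ≠ 0 →
    (cl a).length = [0, 192, 32, 16, 8].getD (lab a) 0 := by decide +kernel

theorem comm_three : ∀ a < 192, lab a = 3 →
    ((∀ x ∈ cl a, ∀ y ∈ cl a, mu x y = mu y x ∨ mu x y = mu zI (mu y x)) ∧
    ∃ x ∈ cl a, ∃ y ∈ cl a, mu x y ≠ mu y x) := by decide +kernel

theorem center_two : ∀ a < 192, lab a = 2 → lab (mu zI a) = 2 ∧ mu zI a ≠ a ∧
    ∀ x ∈ cl a, (cl a).all (com x) = true → x = 0 ∨ x = zI ∨ x = a ∨ x = mu zI a := by
  decide +kernel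

theorem four_pair : (∃ p ∈ cl jI, lab p = 2) ∧
    ∀ b < 192, lab b = 4 → ∀ p ∈ cl b, ∀ q ∈ cl b,
      (lab p = 2 ∨ lab p = 3) → (lab q = 2 ∨ lab q = 3) → p ≠ q → mu p q = zI := by
  decide +kernel

theorem syl_spec : inS 0 = true ∧ inS zI = true ∧ ((List.range 192).filter inS).length = 64 ∧
    ∀ a < 192, inS a = true → (∀ b < 192, inS b = true → inS (mu a b) = true) ∧
      (((List.range 192).filter inS).all (com a) = true → a = 0 ∨ a = zI) := by decide +kernel

theorem half_spec : inH 0 = true ∧ ((List.range 192).filter inH).length = 32 ∧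
    (∀ a < 192, inH a = true → inS a = true ∧ lab a ≠ 4 ∧
      ∀ b < 192, inH b = true → inH (mu a b) = true) ∧
    ∃ a < 192, inS a = true ∧ inH a = false ∧ lab a = 4 := by decide +kernel

theorem R_spec : iI ∈ cl kI ∧ zI ∈ cl kI ∧ ∀ a ∈ cl kI, (mu a a = 0 ∨ mu a a = zI) ∧ lab a ≠ 4 ∧
    (inM a = false → lab a ≠ 0 → lab a = 3 ∧ lab (mu a kI) = 3) := by decide +kernel

theorem M_spec : inM 0 = true ∧ inM zI = true ∧ inM iI = true ∧ inM kI = true ∧
    ((List.range 192).filter inM).length = 8 ∧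
    ∀ a < 192, inM a = true → mu a a = 0 ∧
      ∀ b < 192, inM b = true → com a b = true ∧ inM (mu a b) = true := by decide +kernel

theorem M_class : ∀ a < 192, inM a = true →
      (a ≠ 0 → a ≠ kI → (lab a = 1 ∨ lab a = 2) ∨ lab (mu a kI) = 1 ∨ lab (mu a kI) = 2) ∧
      (lab a = 1 ∨ lab a = 2 → (a = zI ∨ a = iI ∨ a = mu zI iI) ∧ lab (mu a kI) = 3) := by
  decide +kernel

theorem square_two : ∀ b < 192, lab b = 2 → ∀ x ∈ cl b, lab x = 3 →
    (∀ y ∈ cl b, lab y = 2 → mu (mu x y) (mu x y) = 0 ∨ mu (mu x y) (mu x y) = zI) ∧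
    ∃ y ∈ cl b, lab y = 2 ∧ mu (mu x y) (mu x y) ≠ 0 := by decide +kernel

theorem pw_order : ∀ a < 192, pw a 24 = 0 := by decide +kernel

theorem pairs_case_one :
    (pairs (List.range 192) [1, 2, 4] [3] zI).length = 240 ∧
    (pairs (List.range 192) [1, 2, 4] [1, 2, 4] zI).length = 318 := by decide +kernel

theorem pairs_case_two :
    (pairs (List.range 192) [1, 2] [3, 4] zI).length = 48 ∧
    (pairs (cl kI) [1, 2] [3, 4] kI).length = 3 := by decide +kernel

end Cfsg.Agent.M12Cent14
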