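import Cfsg.Prelude.Def_Sporadic
import Cfsg.Agent.M12Cent14.CaseOne
import Cfsg.Agent.M12Cent14.CaseTwo

/-!
# A simple group with the involution centralizer of M₁₂ has order 95040
-/

set_option autoImplicit false

namespace Cfsg.Agent.M12Cent14

open Subgroup

variable {G : Type*} [Group G] {t : G} {φ : ℕ → G}

namespace CentModel

variable [Finite G] [IsSimpleGroup G]

theorem ne_1344 (h : CentModel t φ) : Nat.card G ≠ 1344 := by
  intro e
  set C := centralizer ({t} : Set G) with hC
  have hidx : C.index = 7 := by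
    have := C.card_mul_index
    rw [show Nat.card C = 192 from h.card_cent, e] at this
    omega
  have hinj : Function.Injective (MulAction.toPermHom G (G ⧸ C)) := by
    rw [← MonoidHom.ker_eq_bot_iff, ← Subgroup.normalCore_eq_ker]
    rcases (Subgroup.normalCore_normal C).eq_bot_or_eq_top with e' | e'
    · exact e'
    · have h1 : C = ⊤ := top_le_iff.1 (e' ▸ Subgroup.normalCore_le C)
      rw [h1, Subgroup.index_top] at hidx
      norm_num at hidx
  have h2 := Subgroup.card_dvd_of_injective _ hinj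
  rw [Nat.card_perm, ← Subgroup.index_eq_card, hidx, e] at h2
  revert h2
  decide

theorem ne_12096 (h : CentModel t φ) (hG : ¬ IsMulCommutative G) (hJ : IsConj t (φ jI)) :
    Nat.card G ≠ 12096 := by
  classical
  intro e
  letI := Fintype.ofFinite G
  set X := {x : G // IsConj t x} with hX
  have hXc : Nat.card X = 63 := by
    change Nat.card {x : G // IsConj t x} = 63
    have := S1875.card_class t
    rw [h.card_cent, e] at this
    omega
  let P : X → Type _ := fun w => {q : G × G //
    IsConj t q.1 ∧ IsConj t q.2 ∧ (w : G) ∈ zpowers (q.1 * q.2)}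
  have hP : ∀ w : X, Nat.card (P w) = 318 := by
    intro w
    rw [← pairs_case_one.2, ← h.card_pairs_t h.orderOf_t h.orderOf_t
      (fun a ha => (h.class_one hG hJ ha).1) fun a ha => (h.class_one hG hJ ha).1]
    obtain ⟨g, hg⟩ := isConj_iff.1 w.2
    have hc : ∀ x, IsConj t (g * x * g⁻¹) ↔ IsConj t x := fun x =>
      ⟨fun hx => hx.trans (isConj_iff.2 ⟨g⁻¹, by group⟩),
        fun hx => hx.trans (isConj_iff.2 ⟨g, rfl⟩)⟩
    have hpz : ∀ x y : G, (w : G) ∈ zpowers (g * x * g⁻¹ * (g * y * g⁻¹)) ↔ t ∈ zpowers (x * y) := by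
      intro x y
      rw [conj_mul, ← hg, mem_zpowers_iff, mem_zpowers_iff]
      refine exists_congr fun k => ?_
      rw [conj_zpow]
      exact ⟨fun e' => mul_left_cancel (mul_right_cancel e'), fun e' => by rw [e']⟩
    refine (Nat.card_congr (Equiv.subtypeEquiv
      (Equiv.prodCongr (MulAut.conj g).toEquiv (MulAut.conj g).toEquiv) fun q => ?_)).symm
    simp only [Equiv.prodCongr_apply, Prod.map, MulEquiv.toEquiv_eq_coe, EquivLike.coe_coe,
      MulAut.conj_apply, hc, hpz]
  let f : (Σ w : X, P w) → X × X := fun s => (⟨s.2.1.1, s.2.2.1⟩, ⟨s.2.1.2, s.2.2.2.1⟩)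
  have hf : Function.Injective f := by
    rintro ⟨w, ⟨x, y⟩, hx, hy, hw⟩ ⟨w', ⟨x', y'⟩, hx', hy', hw'⟩ he
    simp only [f, Prod.mk.injEq] at he
    obtain rfl : x = x' := congrArg Subtype.val he.1
    obtain rfl : y = y' := congrArg Subtype.val he.2
    obtain rfl : w = w' := Subtype.ext (S1875.unique_inv (x * y) _ _ hw hw'
      ((orderOf_of_isConj w.2).trans h.orderOf_t) ((orderOf_of_isConj w'.2).trans h.orderOf_t))
    rfl
  have hle := Nat.card_le_card_of_injective f hf
  rw [Nat.card_sigma, Nat.card_prod, Finset.sum_congr rfl (fun w _ => hP w), Finset.sum_const,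
    smul_eq_mul, Finset.card_univ, ← Nat.card_eq_fintype_card, hXc] at hle
  norm_num at hle

theorem card_eq (h : CentModel t φ) (hG : ¬ IsMulCommutative G) : Nat.card G = 95040 := by
  rcases h.four_cases hG with hJ | hJ
  · exact (h.card_G_one hG hJ).resolve_left (h.ne_12096 hG hJ)
  · exact absurd (h.card_G_two hG hJ) h.ne_1344

end CentModel

/-- A simple group with the 2-central involution centralizer of M₁₂ has the order of M₁₂. -/
theorem isM12_of_cent {G : Type*} [Group G] [Finite G] [IsSimpleGroup G]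
    (hG : ¬ IsMulCommutative G) {u : ↥Cfsg.Spor.M12} (hu : Cfsg.IsTwoCentralInvolution u)
    {t : G} (ht : orderOf t = 2)
    (e : ↥(Subgroup.centralizer ({t} : Set G)) ≃*
      ↥(Subgroup.centralizer ({u} : Set ↥Cfsg.Spor.M12))) : Cfsg.IsM12 G := by
  obtain ⟨φ, hφ⟩ := centModel_of_equiv ht hu e
  exact ⟨inferInstance, hφ.card_eq hG⟩

end Cfsg.Agent.M12Cent14
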